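import Cfsg.Agent.Lib.Blocks.EqualDegrees.Pairing
import Cfsg.Agent.Lib.Char.Clifford
import Cfsg.Agent.Lib.CharTools.Basic

/-!
# Equal degrees over all linear characters force a trivial inertial quotient

`L` is a normal subgroup of `G` of index prime to `p` with an invariant irreducible character `θ`,
and `G` acts on a normal subgroup `P` so that exactly the elements of `L` fix all linear characters
of exponent `p`. If, for each such character `λ`, all the numbers `|G : S| η(1)` (`η` over `θ` on the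
stabiliser `S` of `λ`) are the same, then `L` is the whole group.
-/

set_option autoImplicit false
set_option linter.unusedSectionVars false
set_option linter.style.haveILetI false
set_option maxHeartbeats 800000

namespace CfsgLib.EqualDeg

open Cfsg CfsgLib.Char CfsgLib.CharTwist
open scoped ComplexConjugate

universe u

variable {G : Type u} [Group G] [Fintype G]

/-- `g` fixes the linear character. -/
def Fixes {P : Subgroup G} [P.Normal] (lam : P →* ℂˣ) (g : G) : Prop :=
  ∀ u : P, lam (MulAut.conjNormal g u) = lam u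

/-- The conjugate of a linear character. -/
noncomputable def linConj {P : Subgroup G} [P.Normal] (g : G) (lam : P →* ℂˣ) : P →* ℂˣ :=
  lam.comp (MulAut.conjNormal g).toMonoidHom

theorem linConj_apply {P : Subgroup G} [P.Normal] (g : G) (lam : P →* ℂˣ) (u : P) :
    linConj g lam u = lam (MulAut.conjNormal g u) := rfl

theorem linConj_pow {P : Subgroup G} [P.Normal] (g : G) (lam : P →* ℂˣ) {n : ℕ}
    (h : lam ^ n = 1) : linConj g lam ^ n = 1 :=
  MonoidHom.ext fun _ => DFunLike.congr_fun h _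

/-- The stabiliser of a linear character. -/
def linStab {P : Subgroup G} [P.Normal] (lam : P →* ℂˣ) : Subgroup G where
  carrier := {g | Fixes lam g}
  one_mem' u := by rw [map_one]; rfl
  mul_mem' {a b} ha hb u := by
    rw [map_mul, MulAut.mul_apply, ha, hb]
  inv_mem' {a} ha u := by
    rw [← ha (MulAut.conjNormal a⁻¹ u), ← MulAut.mul_apply, ← map_mul, mul_inv_cancel, map_one]
    rfl

@[simp] theorem mem_linStab {P : Subgroup G} [P.Normal] {lam : P →* ℂˣ} {g : G} :
    g ∈ linStab lam ↔ Fixes lam g := Iff.rfl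

/-- The data of the theorem. -/
structure Setting (p : ℕ) (L P : Subgroup G) [L.Normal] [Fintype L] [P.Normal] (θ : L → ℂ)
    (d : ℕ) : Prop where
  prime : p.Prime
  irr : IsIrrCharacter L θ
  inv : ∀ g : G, conjFun L θ g = θ
  cop : ¬ p ∣ L.index
  fix : ∀ l ∈ L, ∀ lam : P →* ℂˣ, lam ^ p = 1 → Fixes lam l
  faith : ∀ g : G, (∀ lam : P →* ℂˣ, lam ^ p = 1 → Fixes lam g) → g ∈ L
  deg : ∀ lam : P →* ℂˣ, lam ^ p = 1 → ∀ S : Subgroup G, (∀ g, g ∈ S ↔ Fixes lam g) →
    ∀ (hLS : L ≤ S) (_ : Fintype S) (η : IrrCharacter S),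
      classInner (fun n : L => (η : S → ℂ) ⟨n, hLS n.2⟩) θ ≠ 0 →
        S.index * charDegree (η : S → ℂ) = d

theorem pow_pow_one {n : ℕ} {P : Subgroup G} {lam : P →* ℂˣ} (h : lam ^ n = 1) (j : ℕ) :
    (lam ^ j) ^ n = 1 := by
  refine MonoidHom.ext fun v => ?_
  have h' : lam v ^ n = 1 := DFunLike.congr_fun h v
  show (lam v ^ j) ^ n = 1
  rw [← pow_mul, mul_comm, pow_mul, h', one_pow]

theorem mul_inv_pow_one {n : ℕ} {P : Subgroup G} {lam μ : P →* ℂˣ} (h : lam ^ n = 1)
    (hμ : μ ^ n = 1) : (lam * μ⁻¹) ^ n = 1 := by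
  refine MonoidHom.ext fun v => ?_
  have h' : lam v ^ n = 1 := DFunLike.congr_fun h v
  have hμ' : μ v ^ n = 1 := DFunLike.congr_fun hμ v
  show (lam v * (μ v)⁻¹) ^ n = 1
  rw [mul_pow, inv_pow, h', hμ', inv_one, mul_one]

section Linear

variable {p : ℕ} {ζ : ℂ}

/-- A complex-valued logarithm on the roots of unity of order `p`. -/
noncomputable def lgC (p : ℕ) (ζ z : ℂ) : ℂ :=
  ∑ i ∈ Finset.range p, (i : ℂ) * ((p : ℂ)⁻¹ * ∑ j ∈ Finset.range p, ((ζ ^ i)⁻¹ * z) ^ j)

theorem lgC_pow (hp : p.Prime) (hζ : IsPrimitiveRoot ζ p) {k : ℕ} (hk : k < p) :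
    lgC p ζ (ζ ^ k) = k := by
  rw [lgC, Finset.sum_eq_single k]
  · rw [inv_mul_cancel₀ (pow_ne_zero _ (hζ.ne_zero hp.ne_zero))]
    simp only [one_pow, Finset.sum_const, Finset.card_range, nsmul_eq_mul, mul_one]
    rw [inv_mul_cancel₀ (Nat.cast_ne_zero.2 hp.ne_zero), mul_one]
  · intro i hi hik
    have hne : (ζ ^ i)⁻¹ * ζ ^ k ≠ 1 := by
      intro h
      rw [inv_mul_eq_one₀ (pow_ne_zero _ (hζ.ne_zero hp.ne_zero))] at h
      exact hik (hζ.pow_inj (Finset.mem_range.1 hi) hk h)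
    have hpow : ((ζ ^ i)⁻¹ * ζ ^ k) ^ p = 1 := by
      rw [mul_pow, inv_pow, ← pow_mul, ← pow_mul, mul_comm i, mul_comm k, pow_mul, pow_mul,
        hζ.pow_eq_one, one_pow, one_pow, inv_one, one_mul]
    rw [geom_sum_eq hne, hpow, sub_self, zero_div, mul_zero, mul_zero]
  · exact fun h => absurd (Finset.mem_range.2 hk) h

theorem pow_eq_pow_iff_modEq' (hp : p.Prime) (hζ : IsPrimitiveRoot ζ p) {a b : ℕ} :
    ζ ^ a = ζ ^ b ↔ a ≡ b [MOD p] := by
  have hu : IsUnit ζ := IsUnit.mk0 ζ (hζ.ne_zero hp.ne_zero)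
  obtain ⟨z, rfl⟩ := hu
  have h : orderOf z = p := (IsPrimitiveRoot.coe_units_iff.1 hζ).eq_orderOf.symm
  rw [← Units.val_pow_eq_pow_val, ← Units.val_pow_eq_pow_val, Units.val_inj, pow_eq_pow_iff_modEq, h]

theorem exists_log (hp : p.Prime) (hζ : IsPrimitiveRoot ζ p) {P : Subgroup G}
    {lam : P →* ℂˣ} (hlam : lam ^ p = 1) (u : P) :
    ∃ k, k < p ∧ (lam u : ℂ) = ζ ^ k := by
  haveI : NeZero p := ⟨hp.ne_zero⟩
  have h : (lam u : ℂ) ^ p = 1 := by
    rw [← Units.val_pow_eq_pow_val]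
    exact congrArg Units.val (DFunLike.congr_fun hlam u)
  obtain ⟨k, hk, he⟩ := hζ.eq_pow_of_pow_eq_one h
  exact ⟨k, hk, he.symm⟩

end Linear

variable {p : ℕ} {L P : Subgroup G} [hL : L.Normal] [Fintype L] [hP : P.Normal] {θ : L → ℂ}
  {d : ℕ} (hS : Setting p L P θ d)
include hS

theorem Setting.le_stab {lam : P →* ℂˣ} (hlam : lam ^ p = 1) : L ≤ linStab lam :=
  fun l hl => hS.fix l hl lam hlam

theorem Setting.degree (χ : IrrCharacter G)
    (hχ : classInner (fun n : L => (χ : G → ℂ) n) θ ≠ 0) :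
    (charDegree (χ : G → ℂ) : ℂ) = d := by
  classical
  let e : (⊤ : Subgroup G) ≃* G := Subgroup.topEquiv
  have h := hS.deg 1 (MonoidHom.ext fun _ => one_pow p) ⊤ (fun g => ⟨fun _ _ => rfl, fun _ => Subgroup.mem_top g⟩)
    le_top inferInstance ⟨(χ : G → ℂ) ∘ e, isIrrCharacter_comp_equiv χ.2 e⟩ hχ
  rw [Subgroup.index_top, one_mul] at h
  rw [← h, CfsgLib.CharTools.irr_degree_cast, CfsgLib.CharTools.irr_degree_cast]
  simp

theorem Setting.mult (χ : IrrCharacter G)
    (hχ : classInner (fun n : L => (χ : G → ℂ) n) θ ≠ 0) :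
    classInner (fun n : L => (χ : G → ℂ) n) θ = (d : ℂ) / θ 1 := by
  have hI : inertia L θ = ⊤ := eq_top_iff.2 fun g _ => mem_inertia.2 (hS.inv g)
  have h := CfsgLib.Clifford.apply_one_eq L χ.2 hS.irr hχ
  rw [hI, Subgroup.index_top, Nat.cast_one, mul_one, ← CfsgLib.CharTools.irr_degree_cast,
    hS.degree χ hχ] at h
  rw [h, mul_div_assoc, div_self (IsIrrCharacter.apply_one_ne_zero hS.irr), mul_one]

/-- The sum of the characters over `θ`. -/
theorem Setting.exists_total : ∃ (Ψ : G → ℂ) (κ : ℂ), IsCharacter G Ψ ∧ κ ≠ 0 ∧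
    (∀ x, extendByZero L θ x = κ * Ψ x) ∧
    ∀ (lam : P →* ℂˣ), lam ^ p = 1 → ∀ [Fintype (linStab lam)] (η : IrrCharacter (linStab lam)),
      classInner (fun s : linStab lam => Ψ s) (η : linStab lam → ℂ) = 0 ∨
        classInner (fun s : linStab lam => Ψ s) (η : linStab lam → ℂ) = 1 := by
  classical
  set F : Finset (IrrCharacter G) := Finset.univ.filter fun χ =>
    classInner (fun n : L => (χ : G → ℂ) n) θ ≠ 0 with hF
  set Ψ : G → ℂ := ∑ χ ∈ F, (χ : G → ℂ) with hΨ
  have hΨc : IsCharacter G Ψ :=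
    IsCharacter.sum F _ fun χ _ => IsIrrCharacter.isCharacter χ.2
  have hθ1 : θ 1 ≠ 0 := IsIrrCharacter.apply_one_ne_zero hS.irr
  have hm0 : ∀ χ ∈ F, ((d : ℂ) / θ 1) ≠ 0 := fun χ hχ h =>
    (Finset.mem_filter.1 hχ).2 (by rw [hS.mult χ (Finset.mem_filter.1 hχ).2, h])
  have hind : indFun L θ = ((d : ℂ) / θ 1) • Ψ := by
    have h := IsClassFunction.eq_sum_classInner (isClassFunction_indFun L θ)
    rw [h, hΨ, Finset.smul_sum, hF, Finset.sum_filter]
    refine Finset.sum_congr rfl fun χ _ => ?_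
    rw [classInner_indFun L θ _ (IsIrrCharacter.isClassFunction χ.2), ← classInner_conj_symm]
    split_ifs with hc
    · rw [hS.mult χ hc, map_div₀, map_natCast,
        CfsgLib.CharTools.conj_apply_one (IsIrrCharacter.isCharacter hS.irr)]
    · rw [not_not.1 hc, map_zero, zero_smul]
  have hidx : (L.index : ℂ) ≠ 0 := Nat.cast_ne_zero.2 Subgroup.index_ne_zero_of_finite
  have hext : ∀ x, extendByZero L θ x = (d : ℂ) / θ 1 / (L.index : ℂ) * Ψ x := by
    intro x
    rw [div_mul_eq_mul_div, eq_div_iff hidx, ← smul_eq_mul ((d : ℂ) / θ 1),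
      ← Pi.smul_apply, ← hind]
    by_cases hx : x ∈ L
    · obtain ⟨y, rfl⟩ : ∃ y : L, (y : G) = x := ⟨⟨x, hx⟩, rfl⟩
      rw [extendByZero_coe L θ y,
        indFun_normal_apply, Finset.sum_congr rfl fun g _ => congrFun (hS.inv g) y,
        Finset.sum_const, Finset.card_univ, ← Nat.card_eq_fintype_card, nsmul_eq_mul,
        ← Subgroup.card_mul_index L, Nat.cast_mul]
      have hL0 : (Nat.card L : ℂ) ≠ 0 := Nat.cast_ne_zero.2 Nat.card_pos.ne'
      field_simp
    · rw [extendByZero_of_notMem L θ hx, indFun_eq_zero_of_normal L θ hx, zero_mul]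
  have hκ : (d : ℂ) / θ 1 / (L.index : ℂ) ≠ 0 := by
    intro h
    have := hext 1
    rw [h, zero_mul, extendByZero_apply_mem L θ L.one_mem] at this
    exact hθ1 this
  refine ⟨Ψ, _, hΨc, hκ, hext, ?_⟩
  intro lam hlam _ η
  obtain ⟨n, hn⟩ := IsCharacter.exists_nat_classInner (IsCharacter.restrict hΨc (linStab lam)) η.2
  rw [hn]
  suffices n ≤ 1 by
    rcases Nat.le_one_iff_eq_zero_or_eq_one.1 this with h | h <;> simp [h]
  by_contra hlt
  push Not at hlt
  -- the multiplicities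
  choose k hk using fun χ : IrrCharacter G => IsCharacter.exists_nat_classInner
    (IsCharacter.restrict (IsIrrCharacter.isCharacter χ.2) (linStab lam)) η.2
  have hsum : n = ∑ χ ∈ F, k χ := by
    have h : classInner (fun s : linStab lam => Ψ s) (η : linStab lam → ℂ) =
        ∑ χ ∈ F, (k χ : ℂ) := by
      rw [show (fun s : linStab lam => Ψ s) =
        ∑ χ ∈ F, (fun s : linStab lam => (χ : G → ℂ) s) from funext fun s => by
          rw [hΨ, Finset.sum_apply, Finset.sum_apply], classInner_sum_left]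
      exact Finset.sum_congr rfl fun χ _ => hk χ
    rw [hn] at h
    exact_mod_cast h
  have hLS := hS.le_stab hlam
  -- `η` lies over `θ`
  have hover : classInner (fun m : L => (η : linStab lam → ℂ) ⟨m, hLS m.2⟩) θ ≠ 0 := by
    obtain ⟨χ, hχ, hkχ⟩ : ∃ χ ∈ F, k χ ≠ 0 := by
      by_contra hall
      push Not at hall
      rw [Finset.sum_eq_zero hall] at hsum
      omega
    intro h0
    obtain ⟨θ', hθ', hc'⟩ := CfsgLib.Clifford.exists_constituent
      (IsCharacter.comp (IsIrrCharacter.isCharacter η.2) (Subgroup.inclusion hLS))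
      (by simpa using IsIrrCharacter.apply_one_ne_zero η.2)
    obtain ⟨a, ha⟩ := IsCharacter.exists_nat_combination
      (IsCharacter.restrict (IsIrrCharacter.isCharacter χ.2) (linStab lam))
    choose b hb using fun φ : IrrCharacter (linStab lam) => IsCharacter.exists_nat_classInner
      (IsCharacter.comp (IsIrrCharacter.isCharacter φ.2) (Subgroup.inclusion hLS)) hθ'
    have hres : classInner (fun m : L => (χ : G → ℂ) m) θ' =
        ((∑ φ, a φ * b φ : ℕ) : ℂ) := by
      rw [show (fun m : L => (χ : G → ℂ) m) = ∑ φ : IrrCharacter (linStab lam),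
        (a φ : ℂ) • (fun m : L => (φ : linStab lam → ℂ) (Subgroup.inclusion hLS m)) from
          funext fun m => by
            have h := congrFun ha ⟨m, hLS m.2⟩
            simp only [Finset.sum_apply, Pi.smul_apply, smul_eq_mul] at h ⊢
            exact h, classInner_sum_left]
      simp only [classInner_smul_left, hb, Nat.cast_sum, Nat.cast_mul]
    have haη : a η = k χ := by
      have h : classInner (fun s : linStab lam => (χ : G → ℂ) s) (η : linStab lam → ℂ) =
          (a η : ℂ) := by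
        rw [ha, classInner_sum_smul_irr]
      rw [hk χ] at h
      exact_mod_cast h.symm
    have hbη : b η ≠ 0 := fun h => hc' (by
      have := hb η
      rw [h, Nat.cast_zero] at this
      exact this)
    have hne : classInner (fun m : L => (χ : G → ℂ) m) θ' ≠ 0 := by
      rw [hres, Nat.cast_ne_zero]
      intro hz
      have := (Finset.sum_eq_zero_iff.1 hz) η (Finset.mem_univ _)
      rcases mul_eq_zero.1 this with h | h
      · exact hkχ (haη ▸ h)
      · exact hbη h
    obtain ⟨g, hg⟩ := CfsgLib.Clifford.exists_conjFun_eq L χ.2 hS.irr hθ'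
      (Finset.mem_filter.1 hχ).2 hne
    rw [hS.inv g] at hg
    exact hc' (hg ▸ h0)
  -- degrees
  have hdegη := hS.deg lam hlam (linStab lam) (fun g => mem_linStab) hLS inferInstance η hover
  have hI : IsCharacter G (indFun (linStab lam) (η : linStab lam → ℂ)) :=
    IsCharacter.indFun _ (IsIrrCharacter.isCharacter η.2)
  obtain ⟨m, hm⟩ := IsCharacter.exists_nat_combination hI
  have hmk : ∀ χ : IrrCharacter G, m χ = k χ := by
    intro χ
    have h : classInner (indFun (linStab lam) (η : linStab lam → ℂ)) (χ : G → ℂ) = (m χ : ℂ) := by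
      rw [hm, classInner_sum_smul_irr]
    rw [classInner_indFun _ _ _ (IsIrrCharacter.isClassFunction χ.2), ← classInner_conj_symm,
      hk χ, map_natCast] at h
    exact_mod_cast h.symm
  have htot : d = ∑ χ, m χ * charDegree (χ : G → ℂ) := by
    have h := congrFun hm 1
    rw [indFun_apply_one, ← CfsgLib.CharTools.irr_degree_cast, ← Nat.cast_mul, hdegη] at h
    simp only [Finset.sum_apply, Pi.smul_apply, smul_eq_mul,
      ← CfsgLib.CharTools.irr_degree_cast] at h
    exact_mod_cast h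
  have hd0 : 0 < d := hdegη ▸ Nat.mul_pos (Nat.pos_of_ne_zero Subgroup.index_ne_zero_of_finite)
    (CfsgLib.CharTools.irr_degree_pos η)
  have hle : n * d ≤ d := by
    conv_rhs => rw [htot]
    rw [hsum, Finset.sum_mul]
    refine le_trans (le_of_eq (Finset.sum_congr rfl fun χ hχ => ?_))
      (Finset.sum_le_sum_of_subset (Finset.subset_univ F))
    have h := hS.degree χ (Finset.mem_filter.1 hχ).2
    rw [hmk χ, Nat.cast_inj.1 h]
  nlinarith

/-- The vanishing of the sums against a function invariant under the stabiliser. -/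
theorem Setting.sum_comm_eq_zero {lam : P →* ℂˣ} (hlam : lam ^ p = 1) {g : G}
    (hg : ¬ Fixes lam g) (F : G → ℂ) (hF : ∀ l ∈ linStab lam, ∀ t, F (l * t) = F t) :
    ∑ t : G, extendByZero L θ (g * t * g⁻¹ * t⁻¹) * F t = 0 := by
  classical
  obtain ⟨Ψ, κ, hΨ, hκ, hext, hmf⟩ := hS.exists_total
  haveI := Fintype.ofFinite (linStab lam)
  have hLS := hS.le_stab hlam
  have hinner : ∀ t, ∑ l : linStab lam,
      extendByZero L θ (g * (l * t) * g⁻¹ * (l * t : G)⁻¹) = 0 := by
    intro t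
    by_cases hb : t * g⁻¹ * t⁻¹ ∈ linStab lam
    · refine Finset.sum_eq_zero fun l _ => extendByZero_of_notMem L θ fun h => hg ?_
      have h1 : (l : G) * (t * g⁻¹ * t⁻¹) * (l : G)⁻¹ ∈ linStab lam :=
        (linStab lam).mul_mem ((linStab lam).mul_mem l.2 hb) ((linStab lam).inv_mem l.2)
      have h2 : g * (l * t) * g⁻¹ * (l * t : G)⁻¹ =
          g * ((l : G) * (t * g⁻¹ * t⁻¹) * (l : G)⁻¹) := by group
      rw [h2] at h
      exact ((linStab lam).mul_mem_cancel_right h1).1 (hLS h)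
    · have h := sum_conj_eq_zero hΨ (linStab lam) (fun η => hmf lam hlam η)
        (b := t * g⁻¹ * t⁻¹) (fun l hl => ?_) g
      · rw [← mul_zero κ, ← h, Finset.mul_sum]
        refine Finset.sum_congr rfl fun l _ => ?_
        rw [hext]
        congr 2
        group
      · have h0 := hext (t * g⁻¹ * t⁻¹ * l)
        rw [extendByZero_of_notMem L θ fun h => hb
          (((linStab lam).mul_mem_cancel_right hl).1 (hLS h))] at h0
        exact (mul_eq_zero.1 h0.symm).resolve_left hκ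
  have h : ∑ l : linStab lam, ∑ t : G, extendByZero L θ (g * t * g⁻¹ * t⁻¹) * F t = 0 := by
    rw [Finset.sum_congr rfl fun (l : linStab lam) _ => (Fintype.sum_equiv (Equiv.mulLeft (l : G))
      (fun t => extendByZero L θ (g * (l * t) * g⁻¹ * (l * t : G)⁻¹) * F t)
      (fun t => extendByZero L θ (g * t * g⁻¹ * t⁻¹) * F t)
      (fun t => by rw [Equiv.coe_mulLeft, hF l l.2 t])).symm, Finset.sum_comm]
    refine Finset.sum_eq_zero fun t _ => ?_
    rw [← Finset.sum_mul, hinner t, zero_mul]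
  rw [Finset.sum_const, Finset.card_univ, nsmul_eq_mul] at h
  exact (mul_eq_zero.1 h).resolve_left (Nat.cast_ne_zero.2 Fintype.card_ne_zero)

theorem Setting.sum_comm_linear {lam : P →* ℂˣ} (hlam : lam ^ p = 1) {g : G}
    (hg : ¬ Fixes lam g) (u : P) :
    ∑ t : G, extendByZero L θ (g * t * g⁻¹ * t⁻¹) * (lam (MulAut.conjNormal t u) : ℂ) = 0 :=
  hS.sum_comm_eq_zero hlam hg _ fun l hl t => by
    rw [map_mul, MulAut.mul_apply, mem_linStab.1 hl]

theorem Setting.sum_comm_total {g : G} (hg : g ∉ L) :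
    ∑ t : G, extendByZero L θ (g * t * g⁻¹ * t⁻¹) = 0 := by
  by_contra hne
  refine hg (hS.faith g fun lam hlam => ?_)
  by_contra hfix
  exact hne (by simpa using hS.sum_comm_linear hlam hfix 1)

theorem Setting.not_fixes_pow {lam : P →* ℂˣ} (hlam : lam ^ p = 1) {g : G} (hg : ¬ Fixes lam g)
    {j : ℕ} (hj0 : j ≠ 0) (hjp : j < p) : ¬ Fixes (lam ^ j) g := by
  intro h
  refine hg fun u => ?_
  obtain ⟨k, hk⟩ : ∃ k, j * k ≡ 1 [MOD p] := by
    obtain ⟨k, -, hk⟩ := Nat.exists_mul_mod_eq_one_of_coprime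
      (Nat.coprime_comm.1 (hS.prime.coprime_iff_not_dvd.2
        fun hd => absurd (Nat.le_of_dvd (Nat.pos_of_ne_zero hj0) hd) (not_le.2 hjp)))
      hS.prime.one_lt
    exact ⟨k, by rw [Nat.ModEq, hk, Nat.mod_eq_of_lt hS.prime.one_lt]⟩
  have hval : ∀ v : P, lam v = ((lam ^ j) v) ^ k := by
    intro v
    have h1 : lam v ^ p = 1 := DFunLike.congr_fun hlam v
    rw [MonoidHom.pow_apply, ← pow_mul]
    conv_lhs => rw [← pow_one (lam v)]
    exact ((pow_eq_pow_iff_modEq).2 (hk.of_dvd (orderOf_dvd_of_pow_eq_one h1))).symm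
  rw [hval, hval u, h u]

/-- The sums against the logarithm vanish. -/
theorem Setting.sum_comm_log {ζ : ℂ} (hζ : IsPrimitiveRoot ζ p) {lam : P →* ℂˣ} (hlam : lam ^ p = 1)
    {g : G} (hg : ¬ Fixes lam g) (u : P) :
    ∑ t : G, extendByZero L θ (g * t * g⁻¹ * t⁻¹) *
      lgC p ζ (lam (MulAut.conjNormal t u) : ℂ) = 0 := by
  have hgL : g ∉ L := fun h => hg (hS.fix g h lam hlam)
  simp only [lgC, Finset.mul_sum]
  rw [Finset.sum_comm]
  refine Finset.sum_eq_zero fun i _ => ?_
  rw [Finset.sum_comm]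
  refine Finset.sum_eq_zero fun j hj => ?_
  have h : ∑ t : G, extendByZero L θ (g * t * g⁻¹ * t⁻¹) *
      (((lam ^ j) (MulAut.conjNormal t u) : ℂˣ) : ℂ) = 0 := by
    rcases eq_or_ne j 0 with rfl | hj0
    · simpa using hS.sum_comm_total hgL
    · exact hS.sum_comm_linear (pow_pow_one hlam j)
        (hS.not_fixes_pow hlam hg hj0 (Finset.mem_range.1 hj)) u
  rw [← mul_zero ((i : ℂ) * (p : ℂ)⁻¹ * ((ζ ^ i)⁻¹) ^ j), ← h, Finset.mul_sum]
  refine Finset.sum_congr rfl fun t _ => ?_
  rw [MonoidHom.pow_apply, Units.val_pow_eq_pow_val, mul_pow]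
  ring

omit hS in
/-- A sum over the group through the cosets. -/
theorem sum_eq_sum_cosets {α : Type*} [AddCommMonoid α] [Fintype (G ⧸ L)] (f : G → α) :
    ∑ t : G, f t = ∑ q : G ⧸ L, ∑ m : L, f (q.out * m) := by
  rw [← Fintype.sum_prod_type' (fun (q : G ⧸ L) (m : L) => f (q.out * m))]
  refine (Fintype.sum_bijective (fun qm : (G ⧸ L) × L => qm.1.out * (qm.2 : G)) ?_ _ _
    fun _ => rfl).symm
  constructor
  · rintro ⟨q, m⟩ ⟨q', m'⟩ h
    simp only at h
    have hq : q = q' := by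
      have h' := congrArg (fun x : G => (x : G ⧸ L)) h
      simpa [(QuotientGroup.eq_one_iff (m : G)).2 m.2,
        (QuotientGroup.eq_one_iff (m' : G)).2 m'.2] using h'
    subst hq
    exact Prod.ext rfl (Subtype.ext (mul_left_cancel h))
  · intro x
    refine ⟨((x : G ⧸ L), ⟨(x : G ⧸ L).out⁻¹ * x, ?_⟩), by simp⟩
    exact QuotientGroup.eq.1 (QuotientGroup.out_eq' _)

theorem Setting.sum_pairing [Fintype (G ⧸ L)] (g : G) (F : G → ℂ)
    (hF : ∀ t, ∀ m ∈ L, F (t * m) = F t) :
    ∑ q : G ⧸ L, pairing L θ g q.out * F q.out = θ 1 / (Nat.card L : ℂ) ^ 2 *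
      ∑ n : L, ∑ t : G, extendByZero L θ (g * n * t * (g * n)⁻¹ * t⁻¹) * F t := by
  simp only [sum_eq_sum_cosets (L := L) fun t => extendByZero L θ _ * F t]
  rw [Finset.sum_comm, Finset.mul_sum]
  refine Finset.sum_congr rfl fun q _ => ?_
  rw [pairing, mul_assoc, Finset.sum_mul]
  congr 1
  refine Finset.sum_congr rfl fun n _ => ?_
  rw [Finset.sum_mul]
  exact Finset.sum_congr rfl fun m _ => by rw [hF q.out m m.2]

theorem Setting.sum_pairing_eq_zero [Fintype (G ⧸ L)] {g : G} (hg : g ∉ L) :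
    ∑ q : G ⧸ L, pairing L θ q.out g = 0 := by
  have h : ∑ q : G ⧸ L, pairing L θ g q.out = 0 := by
    have h := hS.sum_pairing g (fun _ => 1) (fun _ _ _ => rfl)
    simp only [mul_one] at h
    rw [h, Finset.sum_eq_zero fun (n : L) _ => hS.sum_comm_total
      (g := g * n) (fun h => hg ((L.mul_mem_cancel_right n.2).1 h)), mul_zero]
  simp only [pairing_comm (IsIrrCharacter.isCharacter hS.irr) g, ← map_sum, h, map_zero]

omit hS in
theorem pairing_mul_left (g t : G) {l : G} (hl : l ∈ L) :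
    pairing L θ (g * l) t = pairing L θ g t := by
  rw [pairing, pairing]
  congr 1
  refine Fintype.sum_equiv (Equiv.mulLeft (⟨l, hl⟩ : L)) _ _ fun n => ?_
  simp [mul_assoc]

omit hS in
theorem fixes_mul_right {lam : P →* ℂˣ} {g l : G} (hl : Fixes lam l) :
    Fixes lam (g * l) ↔ Fixes lam g := by
  rw [← mem_linStab, ← mem_linStab, (linStab lam).mul_mem_cancel_right (mem_linStab.2 hl)]

/-- A logarithm. -/
theorem exists_lg (ζ : ℂ) (hζ : IsPrimitiveRoot ζ p) :
    ∃ lg : (P →* ℂˣ) → P → ℕ, ∀ lam : P →* ℂˣ, lam ^ p = 1 → ∀ u,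
      (lam u : ℂ) = ζ ^ lg lam u ∧ lgC p ζ (lam u : ℂ) = lg lam u := by
  classical
  refine ⟨fun lam u => if h : lam ^ p = 1 then (exists_log hS.prime hζ h u).choose else 0,
    fun lam hlam u => ?_⟩
  obtain ⟨h1, h2⟩ := (exists_log hS.prime hζ hlam u).choose_spec
  simp only [dif_pos hlam]
  exact ⟨h2, (congrArg (lgC p ζ) h2).trans (lgC_pow hS.prime hζ h1)⟩

theorem Setting.eq_top : L = ⊤ := by
  classical
  haveI : Fact p.Prime := ⟨hS.prime⟩
  haveI := Fintype.ofFinite (G ⧸ L)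
  obtain ⟨ζ, hζ⟩ : ∃ ζ : ℂ, IsPrimitiveRoot ζ p :=
    ⟨_, Complex.isPrimitiveRoot_exp p hS.prime.ne_zero⟩
  obtain ⟨lg, hlg⟩ := exists_lg hS ζ hζ
  have hinv : ∀ {lam : P →* ℂˣ}, lam ^ p = 1 → ∀ u t, ∀ m ∈ L,
      lam (MulAut.conjNormal (t * m) u) = lam (MulAut.conjNormal t u) := by
    intro lam hlam u t m hm
    rw [map_mul, MulAut.mul_apply]
    exact hS.fix m hm (linConj t lam) (linConj_pow t lam hlam) u
  let T : (P →* ℂˣ) → P → G → ℂ := fun lam u g =>
    ∑ q : G ⧸ L, pairing L θ g q.out * (lg lam (MulAut.conjNormal q.out u) : ℂ)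
  -- for characters moved by `g` the sum vanishes
  have hT0 : ∀ (lam : P →* ℂˣ), lam ^ p = 1 → ∀ u g, ¬ Fixes lam g → T lam u g = 0 := by
    intro lam hlam u g hg
    have h := hS.sum_pairing g (fun t => lgC p ζ (lam (MulAut.conjNormal t u) : ℂ))
      (fun t m hm => by rw [hinv hlam u t m hm])
    simp only [(hlg lam hlam _).2] at h
    show ∑ q : G ⧸ L, _ = 0
    rw [h]
    refine mul_eq_zero_of_right _ (Finset.sum_eq_zero fun n _ => ?_)
    have h' := hS.sum_comm_log hζ hlam (g := g * n)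
      (fun h => hg ((fixes_mul_right (hS.fix n n.2 lam hlam)).1 h)) u
    simpa only [(hlg lam hlam _).2] using h'
  -- outside `L` the sums are multiples of `p`
  have hTp : ∀ (lam : P →* ℂˣ), lam ^ p = 1 → ∀ u g, g ∉ L →
      ∃ z : ℂ, IsIntegral ℤ z ∧ T lam u g = (p : ℂ) * z := by
    intro lam hlam u g hg
    by_cases hfix : Fixes lam g
    swap
    · exact ⟨0, isIntegral_zero, by rw [hT0 lam hlam u g hfix, mul_zero]⟩
    obtain ⟨μ, hμ, hμg⟩ : ∃ μ : P →* ℂˣ, μ ^ p = 1 ∧ ¬ Fixes μ g := by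
      by_contra h
      push Not at h
      exact hg (hS.faith g h)
    have hν : (lam * μ⁻¹) ^ p = 1 := mul_inv_pow_one hlam hμ
    have hνg : ¬ Fixes (lam * μ⁻¹) g := by
      intro h
      refine hμg fun v => ?_
      have h1 := h v
      rw [MonoidHom.mul_apply, MonoidHom.mul_apply, hfix v, mul_right_inj,
        MonoidHom.inv_apply, MonoidHom.inv_apply, inv_inj] at h1
      exact h1
    have hk : ∀ v, ∃ k : ℤ, (lg lam v : ℤ) = lg μ v + lg (lam * μ⁻¹) v + p * k := by
      intro v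
      have h : ζ ^ lg lam v = ζ ^ (lg μ v + lg (lam * μ⁻¹) v) := by
        rw [pow_add, ← (hlg lam hlam v).1, ← (hlg μ hμ v).1, ← (hlg _ hν v).1,
          ← Units.val_mul]
        simp
      have hmod : lg lam v ≡ lg μ v + lg (lam * μ⁻¹) v [MOD p] :=
        (pow_eq_pow_iff_modEq' hS.prime hζ).1 h
      obtain ⟨k, hk⟩ := (Nat.modEq_iff_dvd.1 hmod)
      exact ⟨-k, by push_cast at hk; linarith⟩
    choose k hk using hk
    refine ⟨∑ q : G ⧸ L, pairing L θ g q.out * (k (MulAut.conjNormal q.out u) : ℂ),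
      IsIntegral.sum _ fun q _ => (isIntegral_pairing hS.irr hS.inv g q.out).mul ?_, ?_⟩
    · exact isIntegral_algebraMap (x := k (MulAut.conjNormal q.out u))
    have hc : ∀ v, (lg lam v : ℂ) =
        (lg μ v : ℂ) + (lg (lam * μ⁻¹) v : ℂ) + (p : ℂ) * (k v : ℂ) := fun v => by
      exact_mod_cast congrArg (fun z : ℤ => (z : ℂ)) (hk v)
    show ∑ q : G ⧸ L, _ = _
    simp only [hc, mul_add, Finset.sum_add_distrib]
    rw [show ∑ q : G ⧸ L, pairing L θ g q.out * (lg μ (MulAut.conjNormal q.out u) : ℂ) = 0 from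
      hT0 μ hμ u g hμg, show ∑ q : G ⧸ L, pairing L θ g q.out *
        (lg (lam * μ⁻¹) (MulAut.conjNormal q.out u) : ℂ) = 0 from hT0 _ hν u g hνg,
      Finset.mul_sum, zero_add, zero_add]
    exact Finset.sum_congr rfl fun q _ => by ring
  -- the congruence
  have hmain : ∀ (lam : P →* ℂˣ), lam ^ p = 1 → ∀ u : P,
      (L.index : ZMod p) * (lg lam (MulAut.conjNormal (1 : G ⧸ L).out u) : ZMod p) =
        ∑ q : G ⧸ L, (lg lam (MulAut.conjNormal q.out u) : ZMod p) := by
    intro lam hlam u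
    choose z hz hzT using fun q : G ⧸ L => fun h : q.out ∉ L => hTp lam hlam u q.out h
    let Z : ℂ := ∑ x : G ⧸ L, if h : x.out ∉ L then z x h else 0
    have h1 : (1 : G ⧸ L).out ∈ L := (QuotientGroup.eq_one_iff _).1 (QuotientGroup.out_eq' 1)
    have hout : ∀ x : G ⧸ L, x.out ∈ L → x = 1 := fun x hx => by
      rw [← QuotientGroup.out_eq' x]
      exact (QuotientGroup.eq_one_iff _).2 hx
    have hone : ∀ t, pairing L θ (1 : G ⧸ L).out t = 1 := fun t => by
      rw [← one_mul ((1 : G ⧸ L).out), pairing_mul_left 1 t h1, pairing_one hS.irr hS.inv]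
    have htot : ∑ x : G ⧸ L, T lam u x.out =
        ((∑ q : G ⧸ L, lg lam (MulAut.conjNormal q.out u) : ℕ) : ℂ) + (p : ℂ) * Z := by
      have e1 : Z = ∑ x ∈ Finset.univ.erase (1 : G ⧸ L),
          (if h : x.out ∉ L then z x h else 0) := by
        show ∑ x : G ⧸ L, _ = _
        rw [← Finset.add_sum_erase _ _ (Finset.mem_univ (1 : G ⧸ L)), dif_neg (not_not.2 h1),
          zero_add]
      rw [← Finset.add_sum_erase _ _ (Finset.mem_univ (1 : G ⧸ L)), e1, Finset.mul_sum]
      congr 1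
      · push_cast
        exact Finset.sum_congr rfl fun q _ => by rw [hone, one_mul]
      · refine Finset.sum_congr rfl fun x hx => ?_
        have hxL : x.out ∉ L := fun h => (Finset.mem_erase.1 hx).1 (hout x h)
        rw [dif_pos hxL, ← hzT x hxL]
    have htot' : ∑ x : G ⧸ L, T lam u x.out =
        ((L.index * lg lam (MulAut.conjNormal (1 : G ⧸ L).out u) : ℕ) : ℂ) := by
      show ∑ x : G ⧸ L, ∑ q : G ⧸ L, _ = _
      rw [Finset.sum_comm]
      simp only [← Finset.sum_mul]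
      rw [Finset.sum_eq_single (1 : G ⧸ L)]
      · rw [Nat.cast_mul]
        congr 1
        rw [Finset.sum_congr rfl fun x _ => (pairing_comm (IsIrrCharacter.isCharacter hS.irr)
          ((1 : G ⧸ L).out) x.out).trans (by rw [hone, map_one]), Finset.sum_const,
          Finset.card_univ, ← Nat.card_eq_fintype_card, nsmul_one]
        rfl
      · intro q _ hq
        rw [hS.sum_pairing_eq_zero fun h => hq (hout q h), zero_mul]
      · exact fun h => absurd (Finset.mem_univ _) h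
    have hZint : IsIntegral ℤ Z := IsIntegral.sum _ fun x _ => by
      split_ifs with h
      · exact isIntegral_zero
      · exact hz x h
    set A : ℕ := L.index * lg lam (MulAut.conjNormal (1 : G ⧸ L).out u)
    set B : ℕ := ∑ q : G ⧸ L, lg lam (MulAut.conjNormal q.out u) with hB
    have hp0 : (p : ℂ) ≠ 0 := Nat.cast_ne_zero.2 hS.prime.ne_zero
    have hZ : Z = ((((A : ℤ) - B : ℤ) : ℚ) / (p : ℚ) : ℚ) := by
      have h := htot'.symm.trans htot
      push_cast
      rw [eq_div_iff hp0, h]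
      ring
    obtain ⟨m, hm⟩ := exists_int_of_isIntegral_ratCast (hZ ▸ hZint)
    have hm' : (A : ℤ) - B = (p : ℤ) * m := by
      rw [eq_div_iff (Nat.cast_ne_zero.2 hS.prime.ne_zero)] at hm
      exact_mod_cast hm.symm.trans (mul_comm _ _)
    have hAB : ((A : ℤ) : ZMod p) = ((B : ℤ) : ZMod p) := by
      rw [← sub_eq_zero, ← Int.cast_sub, hm']
      simp
    simpa [hB, A] using hAB
  -- invariance
  refine eq_top_iff.2 fun s _ => hS.faith s fun lam hlam v => ?_
  have hidx : (L.index : ZMod p) ≠ 0 := fun h => hS.cop ((ZMod.natCast_eq_zero_iff _ _).1 h)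
  have hcast : ∀ a b : P, lam a = lam b → (lg lam a : ZMod p) = lg lam b := by
    intro a b h
    have h1 : ζ ^ lg lam a = ζ ^ lg lam b := by
      rw [← (hlg lam hlam a).1, ← (hlg lam hlam b).1, h]
    exact (ZMod.natCast_eq_natCast_iff _ _ _).2 ((pow_eq_pow_iff_modEq' hS.prime hζ).1 h1)
  have h1 : (1 : G ⧸ L).out ∈ L := (QuotientGroup.eq_one_iff _).1 (QuotientGroup.out_eq' 1)
  have key : ∀ u : P, (L.index : ZMod p) * (lg lam u : ZMod p) =
      ∑ q : G ⧸ L, (lg lam (MulAut.conjNormal q.out u) : ZMod p) := by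
    intro u
    rw [← hmain lam hlam u, hcast _ u (hS.fix _ h1 lam hlam u)]
  have heq : (lg lam (MulAut.conjNormal s v) : ZMod p) = lg lam v := by
    refine mul_left_cancel₀ hidx ?_
    rw [key, key]
    refine Fintype.sum_equiv (Equiv.mulRight (s : G ⧸ L)) _ _ fun q => hcast _ _ ?_
    rw [← MulAut.mul_apply, ← map_mul]
    obtain ⟨m, hm⟩ : ∃ m : L, q.out * s = (q * (s : G ⧸ L)).out * m := by
      refine ⟨⟨(q * (s : G ⧸ L)).out⁻¹ * (q.out * s), QuotientGroup.eq.1 ?_⟩, by simp⟩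
      simp
    rw [hm, hinv hlam v _ m m.2]
    rfl
  have h2 : ζ ^ lg lam (MulAut.conjNormal s v) = ζ ^ lg lam v :=
    (pow_eq_pow_iff_modEq' hS.prime hζ).2 ((ZMod.natCast_eq_natCast_iff _ _ _).1 heq)
  exact Units.ext (by rw [(hlg lam hlam _).1, (hlg lam hlam v).1, h2])

end CfsgLib.EqualDeg
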