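import Cfsg.Agent.Lib.Blocks.CentralDefect
import Cfsg.Agent.Lib.Blocks.PPart
import Cfsg.Agent.Lib.OddChar.Virt
import Cfsg.Agent.Lib.Char.Twist
import Cfsg.Agent.Lib.Char.Virtual
import Cfsg.Agent.Lib.Char.Induced

/-!
# Twisting a character by a linear character of a normal `p`-subgroup

`η` is irreducible, trivial on the normal `p`-subgroup `P`, with the largest possible `p`-part of
the degree, and `λ` is an invariant linear character of `P`. Then `g ↦ λ (g_p) η (g)`, read as `0`
off the elements with `p`-part in `P`, is an irreducible character.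
-/

set_option autoImplicit false
set_option linter.style.haveILetI false
set_option maxHeartbeats 1000000
set_option synthInstance.maxHeartbeats 400000

namespace CfsgLib.EqualDeg

open Cfsg CfsgLib.Char CfsgLib.Blocks CfsgLib.BlockReg
open scoped ComplexConjugate

universe u

/-- An exponent taking every element of a group whose order divides `n` to its `p`-part. -/
def GoodExp (p n N : ℕ) : Prop :=
  (∀ d, d ∣ n → ¬ p ∣ d → d ∣ N) ∧ ∀ k, p ^ k ∣ n → N ≡ 1 [MOD p ^ k]

theorem exists_goodExp {p n : ℕ} (hp : p.Prime) (hn : n ≠ 0) : ∃ N, GoodExp p n N := by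
  have hcop : Nat.Coprime (p ^ n.factorization p) (n / p ^ n.factorization p) :=
    (Nat.coprime_ordCompl hp hn).pow_left _
  obtain ⟨N, h1, h0⟩ := Nat.chineseRemainder hcop 1 0
  refine ⟨N, fun d hd hpd => ?_, fun k hk =>
    h1.of_dvd (pow_dvd_pow p ((hp.pow_dvd_iff_le_factorization hn).1 hk))⟩
  refine dvd_trans ?_ (Nat.modEq_zero_iff_dvd.1 h0)
  refine (Nat.Coprime.dvd_of_dvd_mul_left ?_ ((Nat.ordProj_mul_ordCompl_eq_self n p).symm ▸ hd))
  exact ((hp.coprime_iff_not_dvd.2 hpd).symm).pow_right _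

theorem GoodExp.of_dvd {p n m N : ℕ} (h : GoodExp p n N) (hm : m ∣ n) : GoodExp p m N :=
  ⟨fun d hd => h.1 d (hd.trans hm), fun k hk => h.2 k (hk.trans hm)⟩

section Elem

variable {G : Type*} [Group G] [Finite G] {p N : ℕ} (hN : GoodExp p (Nat.card G) N)
include hN

theorem GoodExp.pow_regular {y : G} (hy : ¬ p ∣ orderOf y) : y ^ N = 1 :=
  orderOf_dvd_iff_pow_eq_one.1 (hN.1 _ (orderOf_dvd_natCard y) hy)

theorem GoodExp.pow_pElement {z : G} {k : ℕ} (hz : orderOf z = p ^ k) : z ^ N = z := by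
  conv_rhs => rw [← pow_one z]
  rw [pow_eq_pow_iff_modEq, hz]
  exact hN.2 k (hz ▸ orderOf_dvd_natCard z)

theorem GoodExp.pow_mul_eq {z y : G} {k : ℕ} (hc : Commute z y) (hz : orderOf z = p ^ k)
    (hy : ¬ p ∣ orderOf y) : (z * y) ^ N = z := by
  rw [hc.mul_pow, hN.pow_pElement hz, hN.pow_regular hy, mul_one]

theorem GoodExp.decomp (hp : p.Prime) (g : G) :
    Commute (g ^ N) (g * (g ^ N)⁻¹) ∧ ¬ p ∣ orderOf (g * (g ^ N)⁻¹) := by
  obtain ⟨x, y, hxy, hc, ⟨k, hk⟩, hy⟩ := exists_isPPart hp g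
  have h : g ^ N = x := by rw [← hxy, hN.pow_mul_eq hc hk hy]
  refine ⟨((Commute.refl g).pow_left N).mul_right ((Commute.refl (g ^ N)).inv_right), ?_⟩
  rwa [h, ← hxy, hc.eq, mul_inv_cancel_right]

end Elem

variable {G : Type u} [Group G] [Fintype G] {p : ℕ} [Fact p.Prime] {M : Ideal AlgInt}
  [M.IsMaximal]

theorem card_eq_pow_orderOf {D : Subgroup G} (hD : IsPGroup p D) {z : G} (hz : z ∈ D) :
    ∃ k, orderOf z = p ^ k := by
  obtain ⟨k, hk⟩ := IsPGroup.iff_orderOf.1 hD ⟨z, hz⟩
  exact ⟨k, by rw [← hk, ← Subgroup.orderOf_coe]⟩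

/-- The sums over the elements with `p`-part in a central subgroup. -/
theorem sum_twist {N : ℕ} (hN : GoodExp p (Nat.card G) N) {D : Subgroup G} [Fintype D]
    (hDZ : D ≤ Subgroup.center G) (hD : IsPGroup p D) (f : D → ℂ) (h : G → ℂ) :
    ∑ g : G, extendByZero D f (g ^ N) * h g =
      ∑ z : D, ∑ y ∈ Finset.univ.filter (fun y : G => ¬ p ∣ orderOf y),
        f z * h ((z : G) * y) := by
  classical
  have hp : p.Prime := Fact.out
  have key : ∀ (z : D) (y : G), ¬ p ∣ orderOf y → ((z : G) * y) ^ N = z := fun z y hy => by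
    obtain ⟨k, hk⟩ := card_eq_pow_orderOf hD z.2
    exact hN.pow_mul_eq (Subgroup.mem_center_iff.1 (hDZ z.2) y).symm hk hy
  rw [← Finset.sum_product']
  refine (Finset.sum_of_injOn (fun zy : D × G => (zy.1 : G) * zy.2) ?_ ?_ ?_ ?_).symm
  · rintro ⟨z, y⟩ hzy ⟨z', y'⟩ hzy' he
    simp only [Finset.coe_product, Set.mem_prod, Finset.coe_filter, Finset.mem_univ, true_and,
      Finset.coe_univ, Set.mem_univ, Set.mem_setOf_eq] at hzy hzy'
    simp only at he
    have hz : z = z' := Subtype.ext (by rw [← key z y hzy, ← key z' y' hzy', he])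
    subst hz
    exact Prod.ext rfl (mul_left_cancel he)
  · exact fun _ _ => Finset.mem_coe.2 (Finset.mem_univ _)
  · intro g _ hg
    by_cases hgD : g ^ N ∈ D
    · refine absurd ⟨⟨⟨g ^ N, hgD⟩, g * (g ^ N)⁻¹⟩, ?_, ?_⟩ hg
      · simp only [Finset.coe_product, Set.mem_prod, Finset.coe_filter, Finset.mem_univ, true_and,
          Finset.coe_univ, Set.mem_univ, Set.mem_setOf_eq]
        exact (hN.decomp hp g).2
      · show g ^ N * (g * (g ^ N)⁻¹) = g
        rw [(hN.decomp hp g).1.eq, inv_mul_cancel_right]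
    · rw [extendByZero_of_notMem D f hgD, zero_mul]
  · rintro ⟨z, y⟩ hzy
    simp only [Finset.mem_product, Finset.mem_filter, Finset.mem_univ, true_and] at hzy
    show f z * h ((z : G) * y) = _
    rw [key z y hzy, extendByZero_coe]

/-- The twist over a central `p`-subgroup. -/
theorem twist_central (hM : IsPModular p M) {D : Subgroup G} (hDZ : D ≤ Subgroup.center G)
    (hD : IsPGroup p D) (η : IrrCharacter G)
    (hη : ∀ z ∈ D, (η : G → ℂ) z = (η : G → ℂ) 1)
    (hdeg : (charDegree (η : G → ℂ)).factorization p = D.index.factorization p)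
    {N : ℕ} (hN : GoodExp p (Nat.card G) N) (lam : D →* ℂˣ) :
    IsIrrCharacter G
      (fun g => extendByZero D (fun z : D => (lam z : ℂ)) (g ^ N) * (η : G → ℂ) g) := by
  classical
  haveI : Fintype D := Fintype.ofFinite D
  set F : G → ℂ := fun g => extendByZero D (fun z : D => (lam z : ℂ)) (g ^ N) * (η : G → ℂ) g
    with hF
  set a := (Nat.card G).factorization p with ha
  set k := D.index.factorization p with hk
  obtain ⟨d, hd⟩ := IsPGroup.iff_card.1 hD
  have hidx : k + d = a := by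
    rw [ha, ← Subgroup.card_mul_index D,
      Nat.factorization_mul Nat.card_pos.ne' Subgroup.index_ne_zero_of_finite, Finsupp.add_apply,
      hd, hM.1.factorization_pow, Finsupp.single_eq_same, add_comm]
  have hG : (Nat.card G : ℂ) ≠ 0 := Nat.cast_ne_zero.2 Nat.card_pos.ne'
  have hp0 : (p : ℂ) ≠ 0 := Nat.cast_ne_zero.2 hM.1.ne_zero
  have hηz : ∀ z ∈ D, ∀ g : G, (η : G → ℂ) (z * g) = (η : G → ℂ) g := by
    intro z hz g
    have h := CfsgLib.CharOver.apply_mul_central η.2 (hDZ hz) g
    rw [hη z hz] at h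
    rw [← Subgroup.mem_center_iff.1 (hDZ hz) g]
    exact mul_right_cancel₀ (IsIrrCharacter.apply_one_ne_zero η.2) h
  have hlam : ∀ z : D, (lam z : ℂ) * conj (lam z : ℂ) = 1 := by
    intro z
    have h : (lam z : ℂ) ^ Nat.card D = 1 := by
      rw [← Units.val_pow_eq_pow_val, ← map_pow, pow_card_eq_one', map_one, Units.val_one]
    rw [Complex.mul_conj, Complex.normSq_eq_norm_sq,
      Complex.norm_eq_one_of_pow_eq_one h Nat.card_pos.ne']
    norm_num
  -- the inner products
  have hint : ∀ ξ : IrrCharacter G, ∃ m : ℤ, classInner F (ξ : G → ℂ) = m := by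
    intro ξ
    have hξ1 : (ξ : G → ℂ) 1 ≠ 0 := IsIrrCharacter.apply_one_ne_zero ξ.2
    set μ : D → ℂ := fun z => (ξ : G → ℂ) z / (ξ : G → ℂ) 1 with hμ
    have hξz : ∀ (z : D) (g : G), (ξ : G → ℂ) ((z : G) * g) = μ z * (ξ : G → ℂ) g := by
      intro z g
      have h := CfsgLib.CharOver.apply_mul_central ξ.2 (hDZ z.2) g
      rw [← Subgroup.mem_center_iff.1 (hDZ z.2) g, hμ]
      field_simp
      linear_combination h
    set c : ℂ := ∑ z : D, (lam z : ℂ) * conj (μ z) with hc
    obtain ⟨n, hn⟩ := exists_int_classInner_tilde hM.1 ξ η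
    have hmul : ∀ w : D, (lam w : ℂ) * conj (μ w) * c = c := by
      intro w
      rw [hc, Finset.mul_sum]
      refine Fintype.sum_equiv (Equiv.mulLeft w) _ _ fun z => ?_
      have h := hξz w (z : G)
      have h2 : μ (w * z) = μ w * μ z := by
        rw [hμ]
        simp only [Subgroup.coe_mul]
        rw [h, hμ, mul_div_assoc]
      simp only [Equiv.coe_mulLeft, map_mul, Units.val_mul, h2]
      ring
    have hcval : c = 0 ∨ c = (Nat.card D : ℂ) := by
      by_cases hall : ∀ w : D, (lam w : ℂ) * conj (μ w) = 1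
      · right
        rw [hc, Finset.sum_congr rfl fun w _ => hall w, Finset.sum_const, Finset.card_univ,
          nsmul_one, Nat.card_eq_fintype_card]
      · left
        push Not at hall
        obtain ⟨w, hw⟩ := hall
        by_contra h0
        exact hw (mul_right_cancel₀ h0 ((hmul w).trans (one_mul c).symm))
    have hS : classInner F (ξ : G → ℂ) = (Nat.card G : ℂ)⁻¹ * (c *
        ∑ y ∈ Finset.univ.filter (fun y : G => ¬ p ∣ orderOf y),
          (η : G → ℂ) y * conj ((ξ : G → ℂ) y)) := by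
      rw [classInner]
      congr 1
      simp only [hF, mul_assoc]
      rw [sum_twist hN hDZ hD (fun z : D => (lam z : ℂ))
        (fun g => (η : G → ℂ) g * conj ((ξ : G → ℂ) g)), hc, Finset.sum_mul]
      refine Finset.sum_congr rfl fun z _ => ?_
      rw [Finset.mul_sum]
      refine Finset.sum_congr rfl fun y _ => ?_
      rw [hηz z z.2, hξz, map_mul]
      ring
    have hn' : (n : ℂ) * (Nat.card G : ℂ) = (p : ℂ) ^ a *
        ∑ y ∈ Finset.univ.filter (fun y : G => ¬ p ∣ orderOf y),
          (η : G → ℂ) y * conj ((ξ : G → ℂ) y) := by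
      have h := congrArg conj hn
      rw [map_intCast, classInner, map_mul, map_inv₀, map_natCast] at h
      rw [← h, mul_comm, ← mul_assoc, mul_inv_cancel₀ hG, one_mul, map_sum, Finset.mul_sum,
        Finset.sum_filter]
      refine Finset.sum_congr rfl fun g _ => ?_
      simp only [CfsgLib.BlockReg.tilde, ← ha]
      by_cases h : p ∣ orderOf g
      · simp [h]
      · simp [h]; ring
    have hdvd : (p : ℤ) ^ k ∣ n := by
      obtain ⟨m, hm⟩ : p ^ k ∣ charDegree (η : G → ℂ) := hdeg ▸ Nat.ordProj_dvd _ _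
      refine pow_dvd_of_eq_mul hM k n (rInner p (ξ : G → ℂ) (η : G → ℂ) * (m : ℂ))
        (memRing_mul hM (rInner_memRing hM ξ η) (memRing_natCast hM m)) ?_
      rw [← hn, classInner_eq_rInner_mul, hm]
      push_cast; ring
    rcases hcval with h0 | h0
    · exact ⟨0, by rw [hS, h0, zero_mul, mul_zero, Int.cast_zero]⟩
    · obtain ⟨m, hm⟩ := hdvd
      refine ⟨m, mul_left_cancel₀ (pow_ne_zero a hp0) ?_⟩
      have hcD : c = (p : ℂ) ^ d := by rw [h0, hd]; push_cast; rfl
      rw [hS, hcD, mul_left_comm, mul_left_comm ((p : ℂ) ^ a), ← hn', ← hidx, pow_add, hm]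
      push_cast
      field_simp
  choose z hz using hint
  have hcls : IsClassFunction G F := by
    intro g h
    simp only [hF]
    rw [IsIrrCharacter.isClassFunction η.2 g h]
    congr 1
    rw [conj_pow]
    by_cases hgD : g ^ N ∈ D
    · rw [show h * g ^ N * h⁻¹ = g ^ N by
        rw [Subgroup.mem_center_iff.1 (hDZ hgD) h, mul_inv_cancel_right]]
    · rw [extendByZero_of_notMem D _ hgD, extendByZero_of_notMem]
      intro hh
      refine hgD ?_
      have h2 := Subgroup.mem_center_iff.1 (hDZ hh) h⁻¹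
      have h3 : h * g ^ N * h⁻¹ = g ^ N := by
        have h4 : h⁻¹ * (h * g ^ N * h⁻¹) * h = h * g ^ N * h⁻¹ := by
          rw [h2]; group
        rw [← h4]; group
      rwa [h3] at hh
  have hgen : IsGeneralizedCharacter G F := by
    rw [IsClassFunction.eq_sum_classInner hcls]
    refine IsGeneralizedCharacter.sum _ _ fun ξ _ => ?_
    rw [hz ξ]
    exact IsGeneralizedCharacter.intCast_smul (IsIrrCharacter.isGeneralizedCharacter ξ.2) _
  have hnorm : classInner F F = 1 := by
    obtain ⟨-, hsum⟩ := central_defect_sums hDZ η hM hD hdeg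
    rw [classInner]
    simp only [hF, mul_assoc]
    rw [sum_twist hN hDZ hD (fun z : D => (lam z : ℂ))
      (fun g => (η : G → ℂ) g * conj (extendByZero D (fun z : D => (lam z : ℂ)) (g ^ N) *
        (η : G → ℂ) g)),
      Finset.sum_congr rfl fun (w : D) _ => Finset.sum_congr rfl fun y hy => (?_ : _ =
        (η : G → ℂ) y * conj ((η : G → ℂ) y)), Finset.sum_const, Finset.card_univ,
      ← Nat.card_eq_fintype_card, nsmul_eq_mul, Finset.sum_filter]
    · rw [show (∑ g : G, if ¬ p ∣ orderOf g then (η : G → ℂ) g * conj ((η : G → ℂ) g) else 0) =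
        ∑ g : G, (if p ∣ orderOf g then 0 else (η : G → ℂ) g * conj ((η : G → ℂ) g)) from
          Finset.sum_congr rfl fun g _ => by by_cases h : p ∣ orderOf g <;> simp [h],
        hsum, inv_mul_cancel₀ hG]
    · obtain ⟨j, hj⟩ := card_eq_pow_orderOf hD w.2
      rw [hN.pow_mul_eq (Subgroup.mem_center_iff.1 (hDZ w.2) y).symm hj
        (Finset.mem_filter.1 hy).2, extendByZero_coe, hηz w w.2, map_mul]
      linear_combination (η : G → ℂ) y * conj ((η : G → ℂ) y) * hlam w
  rcases CfsgLib.OddChar.irr_or_neg_of_norm_one hgen hnorm with h | h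
  · exact h
  · exfalso
    obtain ⟨e, he⟩ := IsCharacter.exists_degree (IsIrrCharacter.isCharacter h)
    have h1 : (charDegree (η : G → ℂ) : ℂ) = -(e : ℂ) := by
      rw [← he, Pi.neg_apply, neg_neg, deg_cast]
      simp [hF, extendByZero_apply_mem D _ D.one_mem, show (⟨1, D.one_mem⟩ : D) = 1 from rfl]
    have h2 : ((charDegree (η : G → ℂ) + e : ℕ) : ℂ) = 0 := by push_cast; rw [h1]; ring
    have h3 := deg_pos η
    have h4 : charDegree (η : G → ℂ) + e = 0 := by exact_mod_cast h2
    omega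

/-- The twist by an invariant linear character of a normal `p`-subgroup. -/
theorem twist_normal (hM : IsPModular p M) {P : Subgroup G} [P.Normal] (hP : IsPGroup p P)
    (η : IrrCharacter G) (hη : ∀ z ∈ P, (η : G → ℂ) z = (η : G → ℂ) 1)
    (hdeg : (charDegree (η : G → ℂ)).factorization p = P.index.factorization p)
    {N : ℕ} (hN : GoodExp p (Nat.card G) N) (lam : P →* ℂˣ)
    (hinv : ∀ (g : G) (u : P), lam (MulAut.conjNormal g u) = lam u) :
    IsIrrCharacter G
      (fun g => extendByZero P (fun z : P => (lam z : ℂ)) (g ^ N) * (η : G → ℂ) g) := by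
  classical
  set K : Subgroup G := lam.ker.map P.subtype with hK
  have hmemK : ∀ x : G, x ∈ K ↔ ∃ hx : x ∈ P, lam ⟨x, hx⟩ = 1 := fun x => by
    simp [hK, Subgroup.mem_map, MonoidHom.mem_ker]
  have hKP : K ≤ P := fun x hx => ((hmemK x).1 hx).1
  haveI : K.Normal := ⟨fun x hx g => by
    obtain ⟨hxP, hx1⟩ := (hmemK x).1 hx
    refine (hmemK _).2 ⟨Subgroup.Normal.conj_mem inferInstance x hxP g, ?_⟩
    rw [← hx1, ← hinv g ⟨x, hxP⟩]
    rfl⟩
  set π := QuotientGroup.mk' K with hπ
  set D := P.map π with hD'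
  haveI : Fintype (G ⧸ K) := Fintype.ofFinite _
  have hmemD : ∀ g : G, π g ∈ D ↔ g ∈ P := fun g => by
    rw [← Subgroup.mem_comap, hD', Subgroup.comap_map_eq, hπ, QuotientGroup.ker_mk',
      sup_eq_left.2 hKP]
  have hDZ : D ≤ Subgroup.center (G ⧸ K) := by
    rintro _ ⟨x, hx, rfl⟩
    refine Subgroup.mem_center_iff.2 fun q => ?_
    obtain ⟨g, rfl⟩ := QuotientGroup.mk'_surjective K q
    rw [← map_mul, ← map_mul, hπ, QuotientGroup.mk'_eq_mk']
    refine ⟨(g * x)⁻¹ * (x * g), (hmemK _).2 ⟨?_, ?_⟩, by group⟩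
    · rw [show (g * x)⁻¹ * (x * g) = x⁻¹ * (g⁻¹ * x * g) by group]
      refine P.mul_mem (P.inv_mem hx) ?_
      simpa using Subgroup.Normal.conj_mem inferInstance x hx g⁻¹
    · have h : (⟨(g * x)⁻¹ * (x * g), (by
          rw [show (g * x)⁻¹ * (x * g) = x⁻¹ * (g⁻¹ * x * g) by group]
          refine P.mul_mem (P.inv_mem hx) ?_
          simpa using Subgroup.Normal.conj_mem inferInstance x hx g⁻¹)⟩ : P) =
          (⟨x, hx⟩ : P)⁻¹ * MulAut.conjNormal g⁻¹ (⟨x, hx⟩ : P) := by
        refine Subtype.ext ?_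
        simp only [Subgroup.coe_mul, InvMemClass.coe_inv, MulAut.conjNormal_apply, inv_inv]
        group
      rw [h, map_mul, map_inv, hinv, inv_mul_cancel]
  obtain ⟨η', hη', he⟩ := CfsgLib.CharTwist.exists_irr_quotient η.2 K
    (fun z hz => hη z (hKP hz))
  have hev : ∀ g : G, (η : G → ℂ) g = η' (π g) := fun g => congrFun he g
  let q : P →* D := π.subgroupMap P
  have hqs : Function.Surjective q := π.subgroupMap_surjective P
  have hqk : q.ker ≤ lam.ker := fun u hu => by
    have h : (u : G) ∈ K := by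
      have h1 := congrArg Subtype.val (MonoidHom.mem_ker.1 hu)
      exact (QuotientGroup.eq_one_iff (u : G)).1 h1
    obtain ⟨_, h1⟩ := (hmemK _).1 h
    exact h1
  let lam' : D →* ℂˣ := q.liftOfSurjective hqs ⟨lam, hqk⟩
  have hl : ∀ u : P, lam' (q u) = lam u := fun u =>
    MonoidHom.liftOfRightInverse_comp_apply q _ (Function.rightInverse_surjInv hqs) ⟨lam, hqk⟩ u
  have hidx : D.index = P.index :=
    Subgroup.index_map_eq P (QuotientGroup.mk'_surjective K)
      (by rw [hπ, QuotientGroup.ker_mk']; exact hKP)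
  have hdvd : Nat.card (G ⧸ K) ∣ Nat.card G := Subgroup.card_quotient_dvd_card K
  have h := twist_central hM hDZ (hP.map π) ⟨η', hη'⟩
    (by
      rintro _ ⟨x, hx, rfl⟩
      show η' (π x) = η' 1
      rw [← hev, hη x hx, hev, map_one])
    (by
      rw [hidx, ← hdeg]
      have h1 : charDegree η' = charDegree (η : G → ℂ) := by
        simp only [charDegree]
        rw [hev 1, map_one]
      show (charDegree η').factorization p = _
      rw [h1])
    (hN.of_dvd hdvd) lam'
  have h2 := CfsgLib.CharTwist.isIrrCharacter_comp h π (QuotientGroup.mk'_surjective K)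
  convert h2 using 1
  funext g
  show extendByZero P _ (g ^ N) * (η : G → ℂ) g = extendByZero D _ (π g ^ N) * η' (π g)
  rw [hev, ← map_pow]
  congr 1
  by_cases hg : g ^ N ∈ P
  · rw [extendByZero_apply_mem P _ hg, extendByZero_apply_mem D _ ((hmemD _).2 hg)]
    exact congrArg Units.val (hl ⟨g ^ N, hg⟩).symm
  · rw [extendByZero_of_notMem P _ hg, extendByZero_of_notMem D _ fun h => hg ((hmemD _).1 h)]

end CfsgLib.EqualDeg
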