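import Cfsg.Agent.Lib.Blocks.NormalDefectIff
import Cfsg.Agent.Lib.Blocks.EqualDegrees.Twist
import Cfsg.Agent.Lib.Char.CliffordOver
import Cfsg.Agent.Lib.Blocks.FongReynolds
import Cfsg.Agent.Lib.Char.Linear

/-!
# A block with normal defect group over a root block, and its twisted characters
-/

set_option autoImplicit false
set_option linter.style.haveILetI false
set_option maxHeartbeats 1000000
set_option synthInstance.maxHeartbeats 400000

namespace CfsgLib.EqualDeg

open Cfsg CfsgLib.Char CfsgLib.Blocks CfsgLib.BlockReg CfsgLib.CharTwist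
open scoped ComplexConjugate

universe u

variable {G : Type u} [Group G] [Fintype G] {p : ℕ} [Fact p.Prime] {M : Ideal AlgInt}
  [M.IsMaximal]

/-- The root block, its canonical character and its stabiliser. -/
structure RootData (p : ℕ) [Fact p.Prime] (M : Ideal AlgInt) [M.IsMaximal]
    (B : Set (IrrCharacter G)) (D L : Subgroup G) [L.Normal] [Fintype L]
    (b : Set (IrrCharacter L)) (θ : IrrCharacter L) (T : Subgroup G) : Prop where
  mod : IsPModular p M
  block : IsPBlock M B
  defect : IsDefectGroup p M B D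
  eq_sup : L = D ⊔ Subgroup.centralizer (D : Set G)
  root : IsInducedBlock M L b B
  rootDefect : IsDefectGroup p M b (D.subgroupOf L)
  mem : θ ∈ b
  triv : ∀ x ∈ D.subgroupOf L, (θ : L → ℂ) x = (θ : L → ℂ) 1
  deg : (charDegree (θ : L → ℂ)).factorization p = (D.subgroupOf L).index.factorization p
  inert : inertia L (θ : L → ℂ) = T
  stab : ∀ g : G, g ∈ T ↔ ∀ φ ∈ b, conjIrr L φ g ∈ b
  cop : ¬ p ∣ L.relIndex T

/-- Every block with normal defect group has such data. -/
theorem exists_rootData (hM : IsPModular p M) {B : Set (IrrCharacter G)} (hB : IsPBlock M B)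
    {D : Subgroup G} [D.Normal] (hD : IsDefectGroup p M B D) {L : Subgroup G} [L.Normal]
    [Fintype L] (hL : L = D ⊔ Subgroup.centralizer (D : Set G)) :
    ∃ (b : Set (IrrCharacter L)) (θ : IrrCharacter L) (T : Subgroup G),
      RootData p M B D L b θ T := by
  classical
  have hPp : IsPGroup p D := isPGroup_defectGroup hD
  haveI : (D.subgroupOf L).Normal := Subgroup.normal_subgroupOf
  have hPL : D ≤ L := hL ▸ le_sup_left
  have hCL : Subgroup.centralizer (D : Set G) ≤ L := hL ▸ le_sup_right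
  have hQ : IsPGroup p (D.subgroupOf L) :=
    hPp.of_equiv (Subgroup.subgroupOfEquivOfLe hPL).symm
  have hG := sup_centralizer_subgroupOf D hL
  obtain ⟨χ₀, hχ₀⟩ := IsPBlock.nonempty hB
  obtain ⟨θ₀, hθ₀, hc₀⟩ := CfsgLib.Clifford.exists_constituent_res L χ₀.2
  set b := blockOf M θ₀
  have hind : IsInducedBlock M L b B := by
    rw [IsPBlock.eq_blockOf hB hχ₀]
    exact isInducedBlock_of_covers (θ := ⟨θ₀, hθ₀⟩) L hM hPp hCL hc₀
  have hb := hind.1
  have hDb := isDefectGroup_subgroupOf hM hB hD hPL hind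
  obtain ⟨χL, hχL⟩ := exists_infl_mem (D.subgroupOf L) hM hQ hb
  set θ := infl (D.subgroupOf L) χL with hθdef
  have htriv : ∀ x ∈ D.subgroupOf L, (θ : L → ℂ) x = (θ : L → ℂ) 1 := fun x hx =>
    infl_apply_mem (D.subgroupOf L) χL hx
  have hT : ∀ g : G, g ∈ inertia L (θ : L → ℂ) ↔ ∀ φ ∈ b, conjIrr L φ g ∈ b := by
    intro g
    constructor
    · intro hg φ hφ
      rw [IsPBlock.eq_blockOf hb hχL] at hφ ⊢
      have h := sameBlock_conjIrr L hφ g
      rwa [show conjIrr L θ g = θ from Subtype.ext (mem_inertia.1 hg)] at h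
    · intro h
      have h3 := h θ hχL
      have h4 : ∀ x ∈ D.subgroupOf L,
          (conjIrr L θ g : L → ℂ) x = (conjIrr L θ g : L → ℂ) 1 := by
        intro x hx
        rw [coe_conjIrr]
        simp only [CharTwist.conjFun]
        rw [htriv _ (Subgroup.mem_subgroupOf.2 (Subgroup.Normal.conj_mem inferInstance (x : G)
          (Subgroup.mem_subgroupOf.1 hx) g))]
        exact congrArg (θ : L → ℂ) (Subtype.ext (by simp))
      have h5 := (canonical_character hM hQ hG hb hDb).1.unique ⟨h3, h4⟩ ⟨hχL, htriv⟩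
      rw [mem_inertia]
      exact Eq.trans (coe_conjIrr L θ g).symm (congrArg Subtype.val h5)
  exact ⟨b, θ, inertia L (θ : L → ℂ), hM, hB, hD, hL, hind, hDb, hχL, htriv,
    (canonical_character hM hQ hG hb hDb).2 θ hχL htriv, rfl, hT,
    (isDefectGroup_iff_not_dvd_relIndex hM hPp hL hDb hind hT).1 hD⟩

variable {B : Set (IrrCharacter G)} {D L : Subgroup G} [D.Normal] [L.Normal] [Fintype L]
  {b : Set (IrrCharacter L)} {θ : IrrCharacter L} {T : Subgroup G}
  (h : RootData p M B D L b θ T)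
include h

theorem RootData.isPGroup : IsPGroup p D := isPGroup_defectGroup h.defect

theorem RootData.le : D ≤ L := h.eq_sup ▸ le_sup_left

theorem RootData.centralizer_le : Subgroup.centralizer (D : Set G) ≤ L :=
  h.eq_sup ▸ le_sup_right

theorem RootData.le_stab : L ≤ T :=
  h.inert ▸ le_inertia L (IsIrrCharacter.isClassFunction θ.2)

theorem RootData.isPGroup_sub : IsPGroup p (D.subgroupOf L) :=
  h.isPGroup.of_equiv (Subgroup.subgroupOfEquivOfLe h.le).symm

theorem RootData.over {φ : IrrCharacter L} (hφ : φ ∈ b) {χ : IrrCharacter G}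
    (hc : classInner (fun n : L => (χ : G → ℂ) n) (φ : L → ℂ) ≠ 0) : χ ∈ B := by
  have h' := isInducedBlock_of_covers (M := M) L h.mod h.isPGroup h.centralizer_le hc
  rw [← IsPBlock.eq_blockOf h.root.1 hφ] at h'
  exact IsInducedBlock.unique h' h.root ▸ mem_blockOf_self χ

/-- The values of the characters of the root block. -/
theorem RootData.values {φ : IrrCharacter L} (hφ : φ ∈ b) [Fintype (D.subgroupOf L)]
    (ξ : IrrCharacter (D.subgroupOf L))
    (hc : classInner (fun u : D.subgroupOf L => (φ : L → ℂ) u) (ξ : D.subgroupOf L → ℂ) ≠ 0) :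
    (∀ (u : D.subgroupOf L) (y : L), ¬ p ∣ orderOf y →
      (φ : L → ℂ) ((u : L) * y) = (ξ : D.subgroupOf L → ℂ) u * (θ : L → ℂ) y) ∧
    ∀ g : L, (∀ (u : D.subgroupOf L) (y : L), ¬ p ∣ orderOf y → (u : L) * y ≠ g) →
      (φ : L → ℂ) g = 0 := by
  haveI : (D.subgroupOf L).Normal := Subgroup.normal_subgroupOf
  obtain ⟨χL, hχL⟩ := exists_infl_eq (D.subgroupOf L) h.triv
  have := block_values h.mod h.isPGroup_sub (sup_centralizer_subgroupOf D h.eq_sup) h.root.1
    h.rootDefect (χ := χL) (hχL.symm ▸ h.mem) hφ ξ hc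
  rwa [hχL] at this

/-- The character of the root block over a linear character of `D`, and its values. -/
theorem RootData.exists_linear (lam : D →* ℂˣ) {N : ℕ} (hN : GoodExp p (Nat.card G) N) :
    ∃ φ ∈ b, ∀ x : L, (φ : L → ℂ) x =
      extendByZero D (fun z : D => (lam z : ℂ)) ((x : G) ^ N) * (θ : L → ℂ) x := by
  classical
  haveI : (D.subgroupOf L).Normal := Subgroup.normal_subgroupOf
  haveI := Fintype.ofFinite (D.subgroupOf L)
  have hp : p.Prime := Fact.out
  have hQ := h.isPGroup_sub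
  have hG := sup_centralizer_subgroupOf D h.eq_sup
  have hNL : GoodExp p (Nat.card L) N := hN.of_dvd (Subgroup.card_subgroup_dvd_card L)
  set e := Subgroup.subgroupOfEquivOfLe h.le
  set ξ : IrrCharacter (D.subgroupOf L) :=
    ⟨_, isIrrCharacter_linear (lam.comp e.toMonoidHom)⟩ with hξ
  obtain ⟨φ, hφ, hc⟩ := exists_mem_over h.mod hQ hG h.root.1 h.rootDefect ξ
  obtain ⟨h1, h0⟩ := h.values hφ ξ hc
  have hpow : ∀ (u : D.subgroupOf L) (y : L), ¬ p ∣ orderOf y → ((u : L) * y) ^ N = u := by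
    intro u y hy
    obtain ⟨k, hk⟩ := card_eq_pow_orderOf hQ u.2
    exact hNL.pow_mul_eq (Subgroup.mem_centralizer_iff.1
      (regular_mem_centralizer hQ hG hy) u u.2) hk hy
  refine ⟨φ, hφ, fun x => ?_⟩
  by_cases hx : (x : G) ^ N ∈ D
  · have hx' : x ^ N ∈ D.subgroupOf L := by
      rw [Subgroup.mem_subgroupOf, SubgroupClass.coe_pow]; exact hx
    obtain ⟨hcm, hy⟩ := hNL.decomp hp x
    have hxe : ((⟨x ^ N, hx'⟩ : D.subgroupOf L) : L) * (x * (x ^ N)⁻¹) = x := by
      show x ^ N * (x * (x ^ N)⁻¹) = x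
      rw [hcm.eq, inv_mul_cancel_right]
    have hθ : (θ : L → ℂ) (x * (x ^ N)⁻¹) = (θ : L → ℂ) x := by
      obtain ⟨χL, hχL⟩ := exists_infl_eq (D.subgroupOf L) h.triv
      rw [← hχL, coe_infl]
      simp only [Function.comp_apply]
      congr 1
      rw [QuotientGroup.mk_mul, QuotientGroup.mk_inv, (QuotientGroup.eq_one_iff _).2 hx', inv_one,
        mul_one]
    rw [extendByZero_apply_mem D _ hx]
    conv_lhs => rw [← hxe]
    rw [h1 _ _ hy, hθ]
    rfl
  · rw [extendByZero_of_notMem D _ hx, zero_mul]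
    refine h0 x fun u y hy he => hx ?_
    have := hpow u y hy
    rw [he] at this
    rw [← SubgroupClass.coe_pow, this]
    exact Subgroup.mem_subgroupOf.1 u.2

/-- The degrees over the canonical character on the stabiliser of a linear character. -/
theorem RootData.deg_eq {d : ℕ}
    (hd : ∀ χ ∈ B, blockHeight p B (χ : G → ℂ) = 0 → charDegree (χ : G → ℂ) = d)
    (lam : D →* ℂˣ) {S : Subgroup G} [Fintype S] (hLS : L ≤ S) (hST : S ≤ T)
    (hS : ∀ g ∈ T, g ∈ S ↔ ∀ u : D, lam (MulAut.conjNormal g u) = lam u) (η : IrrCharacter S)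
    (hη : classInner (fun n : L => (η : S → ℂ) ⟨n, hLS n.2⟩) (θ : L → ℂ) ≠ 0) :
    S.index * charDegree (η : S → ℂ) = d := by
  classical
  have hp : p.Prime := Fact.out
  have hDS : D ≤ S := h.le.trans hLS
  haveI : (D.subgroupOf S).Normal := Subgroup.normal_subgroupOf
  haveI := Fintype.ofFinite (D.subgroupOf L)
  -- the restriction of `η`
  have hfix : ∀ t ∈ S, CharTwist.conjFun L (θ : L → ℂ) t = θ := fun t ht =>
    mem_inertia.1 (h.inert.symm ▸ hST ht)
  obtain ⟨e, he⟩ := IsCharacter.exists_nat_classInner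
    (IsCharacter.comp (IsIrrCharacter.isCharacter η.2) (Subgroup.inclusion hLS)) θ.2
  have he' : classInner (fun n : L => (η : S → ℂ) ⟨n, hLS n.2⟩) (θ : L → ℂ) = e := he
  have he0 : e ≠ 0 := fun h0 => hη (by rw [he', h0, Nat.cast_zero])
  have hres : ∀ n : L, (η : S → ℂ) ⟨n, hLS n.2⟩ = (e : ℂ) * (θ : L → ℂ) n := fun n => by
    have h1 := congrFun (CfsgLib.Clifford.res_eq_smul_of_fixed L S hLS θ.2 hfix η.2 hη) n
    rw [he', Pi.smul_apply, smul_eq_mul] at h1
    exact h1
  have hη1 : (η : S → ℂ) 1 = (e : ℂ) * (θ : L → ℂ) 1 := hres 1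
  have htriv : ∀ z ∈ D.subgroupOf S, (η : S → ℂ) z = (η : S → ℂ) 1 := by
    intro z hz
    have hzL : (z : G) ∈ L := h.le hz
    rw [show z = ⟨((⟨z, hzL⟩ : L) : G), hLS hzL⟩ from Subtype.ext rfl, hres, hη1,
      h.triv ⟨z, hzL⟩ (Subgroup.mem_subgroupOf.2 hz)]
  -- the `p`-part of its degree
  have hdη : charDegree (η : S → ℂ) = e * charDegree (θ : L → ℂ) := by
    have h1 : (charDegree (η : S → ℂ) : ℂ) = (e : ℂ) * (charDegree (θ : L → ℂ) : ℂ) := by
      rw [deg_cast, deg_cast, hη1]
    exact_mod_cast h1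
  have hcop : ¬ p ∣ L.relIndex S := fun hdv => h.cop (hdv.trans
    ⟨S.relIndex T, (Subgroup.relIndex_mul_relIndex L S T hLS hST).symm⟩)
  have hidxS : (D.subgroupOf S).index.factorization p =
      (D.subgroupOf L).index.factorization p := by
    show (D.relIndex S).factorization p = (D.relIndex L).factorization p
    rw [← Subgroup.relIndex_mul_relIndex D L S h.le hLS, Nat.factorization_mul
      (show D.relIndex L ≠ 0 from (Subgroup.index_ne_zero_of_finite (H := D.subgroupOf L)))
      (show L.relIndex S ≠ 0 from (Subgroup.index_ne_zero_of_finite (H := L.subgroupOf S))),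
      Finsupp.add_apply,
      Nat.factorization_eq_zero_of_not_dvd hcop, add_zero]
  have hvη : (charDegree (η : S → ℂ)).factorization p =
      (D.subgroupOf S).index.factorization p := by
    refine le_antisymm ?_ ?_
    · obtain ⟨η', hη'⟩ := exists_infl_eq (D.subgroupOf S) htriv
      have hd' : charDegree (η : S → ℂ) = charDegree (η' : S ⧸ D.subgroupOf S → ℂ) := by
        rw [← hη']; simp [charDegree]
      rw [hd', Subgroup.index_eq_card]
      exact (Nat.factorization_le_iff_dvd (deg_pos η').ne' Nat.card_pos.ne').2 (deg_dvd_card η') p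
    · rw [hidxS, ← h.deg, hdη, Nat.factorization_mul he0 (deg_pos θ).ne', Finsupp.add_apply]
      exact Nat.le_add_left _ _
  -- the twist
  obtain ⟨N, hN⟩ := exists_goodExp hp (Nat.card_pos (α := G)).ne'
  set eS := Subgroup.subgroupOfEquivOfLe hDS with heS
  have hinv : ∀ (g : S) (u : D.subgroupOf S),
      lam.comp eS.toMonoidHom (MulAut.conjNormal g u) = lam.comp eS.toMonoidHom u := by
    intro g u
    have h1 := (hS g (hST g.2)).1 g.2 (eS u)
    refine Eq.trans ?_ h1
    exact congrArg lam (Subtype.ext rfl)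
  have hξ := twist_normal h.mod (h.isPGroup.of_equiv eS.symm) η htriv hvη
    (hN.of_dvd (Subgroup.card_subgroup_dvd_card S)) (lam.comp eS.toMonoidHom) hinv
  set ξ : IrrCharacter S := ⟨_, hξ⟩ with hξdef
  obtain ⟨φ, hφ, hval⟩ := h.exists_linear lam hN
  have hξL : (fun n : L => (ξ : S → ℂ) ⟨n, hLS n.2⟩) = (e : ℂ) • (φ : L → ℂ) := by
    funext n
    rw [Pi.smul_apply, smul_eq_mul, hval, mul_left_comm, ← hres]
    show extendByZero (D.subgroupOf S) _ _ * _ = _
    congr 1
    by_cases hn : (n : G) ^ N ∈ D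
    · rw [extendByZero_apply_mem D _ hn, extendByZero_apply_mem (D.subgroupOf S) _
        (Subgroup.mem_subgroupOf.2 (by rw [SubgroupClass.coe_pow]; exact hn))]
      rfl
    · rw [extendByZero_of_notMem D _ hn, extendByZero_of_notMem]
      rw [Subgroup.mem_subgroupOf, SubgroupClass.coe_pow]
      exact hn
  have hξc : classInner (fun n : L => (ξ : S → ℂ) ⟨n, hLS n.2⟩) (φ : L → ℂ) ≠ 0 := by
    rw [hξL, classInner_smul_left, classInner_irr_self φ.2, mul_one]
    exact_mod_cast he0
  -- the inertia group of `φ`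
  have hI : inertia L (φ : L → ℂ) ≤ S := by
    intro g hg
    have hgT : g ∈ T := inertia_le_stab L T h.root.1 h.stab hφ hg
    refine (hS g hgT).2 fun u => Units.ext ?_
    have hu : ∀ v : D, (φ : L → ℂ) ⟨v, h.le v.2⟩ = (lam v : ℂ) * (θ : L → ℂ) 1 := by
      intro v
      obtain ⟨k, hk⟩ := card_eq_pow_orderOf h.isPGroup v.2
      have hvN : (v : G) ^ N = v := hN.pow_pElement hk
      rw [hval, extendByZero_apply_mem D _ (by rw [hvN]; exact v.2),
        h.triv ⟨v, h.le v.2⟩ (Subgroup.mem_subgroupOf.2 v.2)]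
      congr 2
      exact congrArg lam (Subtype.ext hvN)
    have h1 : (φ : L → ℂ) ⟨(MulAut.conjNormal g u : D), h.le (MulAut.conjNormal g u).2⟩ =
        (φ : L → ℂ) ⟨u, h.le u.2⟩ :=
      congrFun (mem_inertia.1 hg) ⟨u, h.le u.2⟩
    rw [hu, hu] at h1
    exact mul_right_cancel₀ (IsIrrCharacter.apply_one_ne_zero θ.2) h1
  obtain ⟨hχ, -, hχφ⟩ := CliffordOver.isIrrCharacter_indFun L S hLS φ.2 hI ξ.2 hξc
  set χ : IrrCharacter G := ⟨_, hχ⟩ with hχdef
  have hχB : χ ∈ B := h.over hφ hχφ
  have hξ1 : (ξ : S → ℂ) 1 = (η : S → ℂ) 1 := by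
    show extendByZero (D.subgroupOf S) _ ((1 : S) ^ N) * _ = _
    rw [one_pow, extendByZero_apply_mem (D.subgroupOf S) _ (Subgroup.one_mem _),
      show (⟨1, Subgroup.one_mem _⟩ : D.subgroupOf S) = 1 from rfl, map_one, Units.val_one,
      one_mul]
  have hdχ : charDegree (χ : G → ℂ) = S.index * charDegree (η : S → ℂ) := by
    have h1 : (charDegree (χ : G → ℂ) : ℂ) = (S.index : ℂ) * (charDegree (η : S → ℂ) : ℂ) := by
      rw [deg_cast, deg_cast, ← hξ1]
      exact indFun_apply_one S _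
    exact_mod_cast h1
  rw [← hdχ]
  refine hd χ hχB ((blockHeight_eq_zero_iff hχB).2 ?_)
  rw [minExp_eq_index h.mod h.block h.defect, hdχ, Nat.factorization_mul
    Subgroup.index_ne_zero_of_finite (deg_pos η).ne', Finsupp.add_apply, hvη,
    ← Subgroup.relIndex_mul_index hDS, Nat.factorization_mul
      (show D.relIndex S ≠ 0 from (Subgroup.index_ne_zero_of_finite (H := D.subgroupOf S)))
      Subgroup.index_ne_zero_of_finite, Finsupp.add_apply, add_comm]
  rfl

end CfsgLib.EqualDeg
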