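import Cfsg.Agent.Lib.Blocks.EqualDegrees.Core
import Cfsg.Agent.Lib.Blocks.EqualDegrees.RootData
import Cfsg.Agent.Lib.Blocks.Pairs.Inertial
import Cfsg.Agent.Lib.Solvable.CoprimeAction
import Cfsg.Agent.Lib.PGroup.Basic

/-!
# Equal height-zero degrees: the stabiliser of the root block is trivial
-/

set_option autoImplicit false
set_option linter.style.haveILetI false
set_option maxHeartbeats 1000000
set_option synthInstance.maxHeartbeats 400000

namespace CfsgLib.EqualDeg

open Cfsg CfsgLib.Char CfsgLib.Blocks CfsgLib.BlockReg CfsgLib.CharTwist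
open scoped ComplexConjugate

universe u

/-- The elements killed by the linear characters of exponent `p` lie in the Frattini subgroup. -/
theorem mem_frattini_of_linear {p : ℕ} [Fact p.Prime] {D : Type*} [Group D] [Finite D]
    (hD : IsPGroup p D) {u : D} (h : ∀ lam : D →* ℂˣ, lam ^ p = 1 → lam u = 1) :
    u ∈ frattini D := by
  by_contra hu
  haveI hQ : IsMulCommutative (D ⧸ frattini D) :=
    Subgroup.Normal.quotient_commutative_iff_commutator_le.2
      (CfsgLib.PGroup.commutator_le_frattini hD)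
  letI : CommGroup (D ⧸ frattini D) :=
    { (inferInstance : Group (D ⧸ frattini D)) with mul_comm := fun a b => hQ.is_comm.comm a b }
  have hne : (u : D ⧸ frattini D) ≠ 1 := fun he => hu ((QuotientGroup.eq_one_iff u).1 he)
  haveI : NeZero (Monoid.exponent (D ⧸ frattini D)) := ⟨Monoid.exponent_ne_zero_of_finite⟩
  haveI : HasEnoughRootsOfUnity ℂ (Monoid.exponent (D ⧸ frattini D)) := inferInstance
  obtain ⟨φ, hφ⟩ :=
    CommGroup.exists_apply_ne_one_of_hasEnoughRootsOfUnity (D ⧸ frattini D) ℂ hne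
  refine hφ (h (φ.comp (QuotientGroup.mk' (frattini D))) (MonoidHom.ext fun v => ?_))
  show φ (QuotientGroup.mk' (frattini D) v) ^ p = 1
  rw [← map_pow, ← map_pow, show QuotientGroup.mk' (frattini D) (v ^ p) = 1 from
    (QuotientGroup.eq_one_iff _).2 (CfsgLib.PGroup.pow_mem_frattini hD v), map_one]

variable {G : Type u} [Group G] [Fintype G] {p : ℕ} [Fact p.Prime] {M : Ideal AlgInt}
  [M.IsMaximal] {B : Set (IrrCharacter G)} {D L : Subgroup G} [D.Normal] [L.Normal] [Fintype L]
  {b : Set (IrrCharacter L)} {θ : IrrCharacter L} {T : Subgroup G}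
  (h : RootData p M B D L b θ T)
include h

/-- Equal degrees in height zero: the stabiliser of the root block is its group. -/
theorem RootData.eq_of_equalDegrees {d : ℕ}
    (hd : ∀ χ ∈ B, blockHeight p B (χ : G → ℂ) = 0 → charDegree (χ : G → ℂ) = d) : T = L := by
  classical
  haveI := Fintype.ofFinite T
  haveI := Fintype.ofFinite (L.subgroupOf T)
  have hp : p.Prime := Fact.out
  have hLT := h.le_stab
  have hDT : D ≤ T := h.le.trans hLT
  haveI : (D.subgroupOf T).Normal := Subgroup.normal_subgroupOf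
  haveI : (L.subgroupOf T).Normal := Subgroup.normal_subgroupOf
  set eP := Subgroup.subgroupOfEquivOfLe hDT with heP
  have hT0 : 0 < T.index := Nat.pos_of_ne_zero Subgroup.index_ne_zero_of_finite
  have hfix : ∀ l ∈ L.subgroupOf T, ∀ lam : (D.subgroupOf T) →* ℂˣ, lam ^ p = 1 →
      Fixes lam l := by
    intro l hl lam _ u
    have hl' : (l : G) ∈ D ⊔ Subgroup.centralizer (D : Set G) := h.eq_sup ▸ hl
    obtain ⟨v, hv, c, hc, hvc⟩ := Subgroup.mem_sup_of_normal_left.1 hl'
    have e1 : MulAut.conjNormal l u = (eP.symm ⟨v, hv⟩) * u * (eP.symm ⟨v, hv⟩)⁻¹ := by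
      refine Subtype.ext (Subtype.ext ?_)
      simp only [MulAut.conjNormal_apply, Subgroup.coe_mul, InvMemClass.coe_inv]
      show (l : G) * u * (l : G)⁻¹ = v * u * v⁻¹
      rw [← hvc]
      have hcu := Subgroup.mem_centralizer_iff.1 hc ((u : T) : G) (Subgroup.mem_subgroupOf.1 u.2)
      calc v * c * u * (v * c)⁻¹ = v * (c * u) * c⁻¹ * v⁻¹ := by group
        _ = v * (u * c) * c⁻¹ * v⁻¹ := by rw [hcu]
        _ = v * u * v⁻¹ := by group
    rw [e1, map_mul, map_mul, map_inv, mul_inv_cancel_comm]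
  have hcop : ¬ p ∣ (L.subgroupOf T).index := h.cop
  have hfaith : ∀ t : T, (∀ lam : (D.subgroupOf T) →* ℂˣ, lam ^ p = 1 → Fixes lam t) →
      t ∈ L.subgroupOf T := by
    intro t ht
    obtain ⟨N, hN⟩ := exists_goodExp hp (Nat.card_pos (α := T)).ne'
    obtain ⟨-, hy⟩ := hN.decomp hp t
    set z := t ^ N with hz
    set y := t * z⁻¹ with hydef
    have hzL : z ∈ L.subgroupOf T := by
      obtain ⟨x, w, hxw, hc, ⟨k, hk⟩, hw⟩ := exists_isPPart hp t
      have hzx : z = x := by rw [hz, ← hxw, hN.pow_mul_eq hc hk hw]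
      refine CfsgLib.Blocks.Pairs.mem_of_pow_mem hcop (Subgroup.pow_index_mem _ z) (k := k) ?_
      rw [hzx, ← hk, pow_orderOf_eq_one]
      exact Subgroup.one_mem _
    have hyfix : ∀ (a : T), a ∈ Subgroup.zpowers y → ∀ lam : (D.subgroupOf T) →* ℂˣ,
        lam ^ p = 1 → Fixes lam a := by
      intro a ha lam hlam
      have h1 : y ∈ linStab lam := (linStab lam).mul_mem (ht lam hlam)
        ((linStab lam).inv_mem (hfix z hzL lam hlam))
      exact (Subgroup.zpowers_le.2 h1) ha
    have hyC : (y : G) ∈ Subgroup.centralizer (D : Set G) := by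
      refine CfsgLib.Solvable.le_centralizer_of_trivial_on_frattini_quotient
        (A := Subgroup.zpowers (y : G)) (K := D) ?_ ?_ (Subgroup.mem_zpowers _)
      · obtain ⟨k, hk⟩ := IsPGroup.iff_card.1 (h.isPGroup.to_subgroup (frattini D))
        rw [Nat.card_zpowers, hk, Subgroup.orderOf_coe]
        exact ((hp.coprime_iff_not_dvd.2 hy).symm).pow_right k
      · intro a ha k hk
        obtain ⟨j, rfl⟩ := Subgroup.mem_zpowers_iff.1 ha
        set a' : T := y ^ j with ha'
        have ha'G : (a' : G) = (y : G) ^ j := by rw [ha', SubgroupClass.coe_zpow]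
        set u : D := MulAut.conjNormal (a' : G) (⟨k, hk⟩ : D) * (⟨k, hk⟩ : D)⁻¹ with hu
        refine ⟨u, mem_frattini_of_linear h.isPGroup (fun lam hlam => ?_), ?_⟩
        · have h1 := hyfix a' ⟨j, rfl⟩ (lam.comp eP.toMonoidHom)
            (MonoidHom.ext fun v => DFunLike.congr_fun hlam (eP v)) (eP.symm ⟨k, hk⟩)
          have h2 : eP (MulAut.conjNormal a' (eP.symm ⟨k, hk⟩)) =
              MulAut.conjNormal (a' : G) (⟨k, hk⟩ : D) := Subtype.ext rfl
          simp only [MonoidHom.comp_apply, MulEquiv.coe_toMonoidHom, h2,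
            MulEquiv.apply_symm_apply] at h1
          rw [hu, map_mul, map_inv, h1, mul_inv_cancel]
        · rw [hu, ← ha'G]
          simp [MulAut.conjNormal_apply]
    have hyL : y ∈ L.subgroupOf T := Subgroup.mem_subgroupOf.2 (h.centralizer_le hyC)
    have : t = y * z := by rw [hydef, inv_mul_cancel_right]
    rw [this]
    exact Subgroup.mul_mem _ hyL hzL
  have hS : Setting p (L.subgroupOf T) (D.subgroupOf T)
      (CliffordOver.trans L T hLT (θ : L → ℂ)) (d / T.index) := by
    refine ⟨hp, CliffordOver.isIrrCharacter_trans L T hLT θ.2, fun t => ?_, hcop, hfix, hfaith,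
      ?_⟩
    · have ht : t ∈ inertia (L.subgroupOf T) (CliffordOver.trans L T hLT (θ : L → ℂ)) := by
        rw [CliffordOver.inertia_trans, Subgroup.mem_subgroupOf, h.inert]
        exact t.2
      exact mem_inertia.1 ht
    · intro lam _ S' hS' hLS' _ η hη
      set S : Subgroup G := S'.map T.subtype with hSdef
      haveI := Fintype.ofFinite S
      set e : S' ≃* S := S'.equivMapOfInjective T.subtype T.subtype_injective with he
      have hST : S ≤ T := Subgroup.map_subtype_le S'
      have hLS : L ≤ S := fun x hx =>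
        ⟨⟨x, hLT hx⟩, hLS' (Subgroup.mem_subgroupOf.2 hx), rfl⟩
      have hmem : ∀ (g : G) (hg : g ∈ T), g ∈ S ↔ ∀ u : D,
          lam.comp eP.symm.toMonoidHom (MulAut.conjNormal g u) =
            lam.comp eP.symm.toMonoidHom u := by
        intro g hg
        have h1 : g ∈ S ↔ (⟨g, hg⟩ : T) ∈ S' :=
          Subgroup.mem_map_iff_mem T.subtype_injective (x := (⟨g, hg⟩ : T))
        rw [h1, hS']
        constructor
        · intro hf u
          refine Eq.trans ?_ (hf (eP.symm u))
          exact congrArg lam (Subtype.ext (Subtype.ext rfl))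
        · intro hf u
          refine Eq.trans ?_ ((hf (eP u)).trans ?_)
          · exact congrArg lam (Subtype.ext (Subtype.ext rfl))
          · exact congrArg lam (Subtype.ext (Subtype.ext rfl))
      set η' : IrrCharacter S := ⟨_, isIrrCharacter_comp_equiv η.2 e.symm⟩ with hη'
      set w : L.subgroupOf T ≃* L := Subgroup.subgroupOfEquivOfLe hLT
      have hval : ∀ n : L.subgroupOf T, (η' : S → ℂ) ⟨(w n : G), hLS (w n).2⟩ =
          (η : S' → ℂ) ⟨n, hLS' n.2⟩ := fun n => by
        show (η : S' → ℂ) (e.symm _) = _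
        rw [show (⟨(w n : G), hLS (w n).2⟩ : S) = e ⟨n, hLS' n.2⟩ from Subtype.ext rfl,
          MulEquiv.symm_apply_apply]
      have hηc : classInner (fun n : L => (η' : S → ℂ) ⟨n, hLS n.2⟩) (θ : L → ℂ) ≠ 0 := by
        rw [← CfsgLib.Clifford.classInner_comp_equiv w]
        convert hη using 2
        · funext n
          exact hval n
        · rfl
      have hd' := h.deg_eq hd (lam.comp eP.symm.toMonoidHom) hLS hST hmem η' hηc
      have hdeg : charDegree (η' : S → ℂ) = charDegree (η : S' → ℂ) := by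
        simp only [charDegree]
        show ⌊((η : S' → ℂ) (e.symm 1)).re⌋₊ = _
        rw [map_one]
      rw [hdeg, hSdef, Subgroup.index_map_subtype, mul_comm S'.index, mul_assoc] at hd'
      rw [← hd', Nat.mul_div_cancel_left _ hT0]
  exact le_antisymm (Subgroup.subgroupOf_eq_top.1 hS.eq_top) hLT

/-- With trivial stabiliser all height-zero degrees are the same. -/
theorem RootData.degree_eq (hTL : T = L) {χ : IrrCharacter G} (hχ : χ ∈ B)
    (h0 : blockHeight p B (χ : G → ℂ) = 0) :
    charDegree (χ : G → ℂ) = L.index * charDegree (θ : L → ℂ) := by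
  classical
  have hp : p.Prime := Fact.out
  haveI : (D.subgroupOf L).Normal := Subgroup.normal_subgroupOf
  haveI := Fintype.ofFinite (D.subgroupOf L)
  obtain ⟨χ₀, hχ₀, θ₁, hθ₁, hc₀⟩ :=
    exists_covering_of_induced L h.mod h.isPGroup h.centralizer_le h.root
  obtain ⟨η, hη, hηc⟩ := CfsgLib.Clifford.exists_constituent_res L χ.2
  obtain ⟨g, hg⟩ := constituent_mem_conjClosure (M := M) L (ψ := ⟨η, hη⟩) h.root.1
    (block_congr h.mod h.root.2.1 hχ₀ hχ) hθ₁ hc₀ hηc
  set φ := conjIrr L ⟨η, hη⟩ g with hφ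
  have hcφ : classInner (fun n : L => (χ : G → ℂ) n) (φ : L → ℂ) ≠ 0 := by
    rw [hφ, coe_conjIrr, CfsgLib.Clifford.classInner_res_conjFun L
      (IsIrrCharacter.isClassFunction χ.2)]
    exact hηc
  have hI : inertia L (φ : L → ℂ) = L := le_antisymm
    (hTL ▸ inertia_le_stab L T h.root.1 h.stab hg)
    (le_inertia L (IsIrrCharacter.isClassFunction φ.2))
  choose m hm using fun ψ : IrrCharacter G =>
    IsCharacter.exists_nat_classInner
      (CfsgLib.Clifford.isCharacter_res (IsIrrCharacter.isCharacter ψ.2) L) φ.2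
  have hsum := index_eq_inertia_index_mul_sum_sq L φ hm
  rw [hI] at hsum
  have hsum1 : ∑ ψ : IrrCharacter G, m ψ ^ 2 = 1 :=
    Nat.eq_of_mul_eq_mul_left (Nat.pos_of_ne_zero (Subgroup.index_ne_zero_of_finite (H := L)))
      (by rw [← hsum, mul_one])
  have hm1 : m χ = 1 := by
    have h1 : m χ ^ 2 ≤ 1 := hsum1 ▸ Finset.single_le_sum
      (f := fun ψ => m ψ ^ 2) (fun _ _ => Nat.zero_le _) (Finset.mem_univ χ)
    have h2 : m χ ≠ 0 := fun e => hcφ (by rw [hm, e, Nat.cast_zero])
    nlinarith [Nat.pos_of_ne_zero h2]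
  have hdeg : charDegree (χ : G → ℂ) = L.index * charDegree (φ : L → ℂ) := by
    have h2 := CfsgLib.Clifford.apply_one_eq L χ.2 φ.2 hcφ
    rw [hm, hm1, hI, ← deg_cast χ, ← deg_cast φ, Nat.cast_one, one_mul] at h2
    exact_mod_cast h2
  obtain ⟨ξ, hξ, hξc⟩ := CfsgLib.Clifford.exists_constituent_res (D.subgroupOf L) φ.2
  have hv := (h.values hg ⟨ξ, hξ⟩ hξc).1 1 1 (by simp [hp.ne_one])
  rw [OneMemClass.coe_one, mul_one, ← deg_cast φ, ← deg_cast (⟨ξ, hξ⟩ : IrrCharacter _),
    ← deg_cast θ] at hv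
  have hφ1 : charDegree (φ : L → ℂ) =
      charDegree ξ * charDegree (θ : L → ℂ) := by exact_mod_cast hv
  have h1 := (blockHeight_eq_zero_iff hχ).1 h0
  rw [minExp_eq_index h.mod h.block h.defect, hdeg, hφ1, ← Subgroup.relIndex_mul_index h.le,
    Nat.factorization_mul Subgroup.index_ne_zero_of_finite
      (mul_ne_zero (deg_pos (⟨ξ, hξ⟩ : IrrCharacter _)).ne' (deg_pos θ).ne'),
    Finsupp.add_apply, Nat.factorization_mul (deg_pos (⟨ξ, hξ⟩ : IrrCharacter _)).ne'
      (deg_pos θ).ne', Finsupp.add_apply, h.deg, Nat.factorization_mul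
      (show D.relIndex L ≠ 0 from (Subgroup.index_ne_zero_of_finite (H := D.subgroupOf L)))
      Subgroup.index_ne_zero_of_finite, Finsupp.add_apply] at h1
  change _ + ((charDegree ξ).factorization p + (D.relIndex L).factorization p) = _ at h1
  obtain ⟨k, hk⟩ := IsPGroup.iff_card.1 h.isPGroup_sub
  obtain ⟨i, -, hi⟩ := (Nat.dvd_prime_pow hp).1 (hk ▸ deg_dvd_card (⟨ξ, hξ⟩ : IrrCharacter _))
  have hξ1 : charDegree ξ = 1 := by
    have h7 : (charDegree ξ).factorization p = 0 := by omega
    change charDegree ξ = p ^ i at hi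
    rw [hi, hp.factorization_pow, Finsupp.single_eq_same] at h7
    rw [hi, h7, pow_zero]
  rw [hdeg, hφ1, hξ1, one_mul]

end CfsgLib.EqualDeg
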