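import Cfsg.Agent.Lib.Char.Integral
import Cfsg.Agent.Lib.Char.Orth
import Cfsg.Agent.Lib.BlockReg.Basic

/-!
# Averages over a subgroup on which a character is free of multiplicities

If a character is free of multiplicities on a subgroup `S` and vanishes on the coset `b S`, then all
the sums of its values on `a l b l⁻¹`, `l ∈ S`, vanish.
-/

set_option autoImplicit false
set_option linter.unusedSectionVars false
set_option linter.style.haveILetI false

namespace CfsgLib.EqualDeg

open Cfsg CfsgLib.Char
open scoped ComplexConjugate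

universe u

variable {G : Type u} [Group G] [Fintype G]

/-- The projection of a translate of a character on an irreducible one. -/
theorem sum_conj_mul_translate {χ : G → ℂ} (hχ : IsCharacter G χ) (η : IrrCharacter G) (h : G) :
    ∑ g, conj ((η : G → ℂ) g) * χ (g * h) =
      classInner χ (η : G → ℂ) * ((Nat.card G : ℂ) / (η : G → ℂ) 1) * (η : G → ℂ) h := by
  classical
  have hirr : ∀ ξ : IrrCharacter G, ∑ g, conj ((η : G → ℂ) g) * (ξ : G → ℂ) (g * h) =
      classInner (ξ : G → ℂ) (η : G → ℂ) * ((Nat.card G : ℂ) / (η : G → ℂ) 1) *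
        (η : G → ℂ) h := by
    intro ξ
    obtain ⟨n, ρ, hρ, hρc⟩ := ξ.2
    haveI := hρ
    obtain ⟨c, hc, hc'⟩ := exists_scalar_sum_smul ρ (fun g => conj ((η : G → ℂ) g)) fun g x => by
      rw [IsIrrCharacter.isClassFunction η.2 g x]
    have h1 := congrArg (fun T : (Fin n → ℂ) →ₗ[ℂ] (Fin n → ℂ) =>
      LinearMap.trace ℂ (Fin n → ℂ) (T * ρ h)) hc
    simp only [Finset.sum_mul, map_sum, smul_mul_assoc, map_smul, ← map_mul, one_mul,
      smul_eq_mul] at h1
    change ∑ g, conj ((η : G → ℂ) g) * ρ.character (g * h) = c * ρ.character h at h1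
    rw [hρc] at h1 hc'
    rw [h1]
    have h2 : ∑ g, conj ((η : G → ℂ) g) * (ξ : G → ℂ) g =
        (Nat.card G : ℂ) * classInner (ξ : G → ℂ) (η : G → ℂ) := by
      rw [classInner, ← mul_assoc, mul_inv_cancel₀ (Nat.cast_ne_zero.2 Nat.card_pos.ne'), one_mul]
      exact Finset.sum_congr rfl fun g _ => mul_comm _ _
    have h3 : (ξ : G → ℂ) 1 = (Module.finrank ℂ (Fin n → ℂ) : ℂ) := by
      rw [← hρc, Representation.char_one]
    rw [h2, ← h3] at hc'
    have hξ1 : (ξ : G → ℂ) 1 ≠ 0 := IsIrrCharacter.apply_one_ne_zero ξ.2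
    have hη1 : (η : G → ℂ) 1 ≠ 0 := IsIrrCharacter.apply_one_ne_zero η.2
    by_cases hξη : ξ = η
    · subst hξη
      rw [classInner_irr_self ξ.2] at hc' ⊢
      field_simp at hc' ⊢
      linear_combination (ξ : G → ℂ) h * hc'
    · rw [classInner_irr_of_ne ξ.2 η.2 (fun e => hξη (Subtype.ext e))] at hc' ⊢
      rw [mul_zero, mul_eq_zero] at hc'
      rw [hc'.resolve_right hξ1]
      ring
  obtain ⟨m, hm⟩ := IsCharacter.exists_nat_combination hχ
  rw [hm, classInner_sum_left]
  simp only [Finset.sum_apply, Pi.smul_apply, smul_eq_mul, Finset.mul_sum, Finset.sum_mul,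
    classInner_smul_left]
  rw [Finset.sum_comm]
  refine Finset.sum_congr rfl fun ξ _ => ?_
  rw [mul_assoc (m ξ : ℂ), mul_assoc (m ξ : ℂ), ← hirr ξ, Finset.mul_sum]
  exact Finset.sum_congr rfl fun g _ => by ring

/-- The dimension of the space of endomorphisms commuting with a representation. -/
theorem finrank_commutant {V : Type*} [AddCommGroup V] [Module ℂ V]
    [FiniteDimensional ℂ V] (σ : Representation ℂ G V) (hchar : IsCharacter G σ.character) :
    classInner σ.character σ.character =
      (Module.finrank ℂ (Representation.linHom σ σ).invariants : ℂ) := by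
  haveI : NeZero (Nat.card G : ℂ) := ⟨Nat.cast_ne_zero.2 Nat.card_pos.ne'⟩
  have h1 := Representation.card_inv_mul_sum_char_mul_char_eq_finrank (k := ℂ) σ σ
  rw [← (Representation.invariantsEquivIntertwiningMap σ σ).finrank_eq] at h1
  rw [← h1, classInner]
  congr 1
  refine Finset.sum_congr rfl fun g _ => ?_
  rw [IsCharacter.apply_inv hchar g]

/-- Schur's lemma for a representation with irreducible character. -/
theorem exists_scalar_of_irr {V : Type*} [AddCommGroup V] [Module ℂ V]
    [FiniteDimensional ℂ V] (σ : Representation ℂ G V) (hirr : IsIrrCharacter G σ.character)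
    {Y : V →ₗ[ℂ] V} (hY : ∀ g, Y * σ g = σ g * Y) : ∃ c : ℂ, Y = c • (1 : V →ₗ[ℂ] V) := by
  have hd := finrank_commutant σ (IsIrrCharacter.isCharacter hirr)
  rw [classInner_irr_self hirr] at hd
  have hd' : Module.finrank ℂ (Representation.linHom σ σ).invariants = 1 := by exact_mod_cast hd.symm
  have hmem : ∀ f : V →ₗ[ℂ] V, (∀ g, f * σ g = σ g * f) →
      f ∈ (Representation.linHom σ σ).invariants := by
    intro f hf g
    rw [Representation.linHom_apply]
    change σ g * (f * σ g⁻¹) = f
    rw [← mul_assoc, ← hf g, mul_assoc, ← map_mul, mul_inv_cancel, map_one, mul_one]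
  have h1 : (⟨1, hmem 1 fun g => by rw [one_mul, mul_one]⟩ :
      (Representation.linHom σ σ).invariants) ≠ 0 := by
    intro h
    have h2 : (1 : V →ₗ[ℂ] V) = 0 := congrArg Subtype.val h
    have h3 := IsIrrCharacter.apply_one_ne_zero hirr
    rw [Representation.character, map_one, h2, map_zero] at h3
    exact h3 rfl
  obtain ⟨c, hc⟩ := (finrank_eq_one_iff_of_nonzero' _ h1).1 hd' ⟨Y, hmem Y hY⟩
  exact ⟨c, (congrArg Subtype.val hc).symm⟩

/-- An endomorphism commuting with a representation free of multiplicities is zero as soon as all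
its traces against the operators of the group vanish. -/
theorem eq_zero_of_trace_eq_zero {V : Type*} [AddCommGroup V] [Module ℂ V]
    [FiniteDimensional ℂ V] (σ : Representation ℂ G V) (hchar : IsCharacter G σ.character)
    (hmf : ∀ η : IrrCharacter G, classInner σ.character (η : G → ℂ) = 0 ∨
      classInner σ.character (η : G → ℂ) = 1)
    {Y : V →ₗ[ℂ] V} (hY : ∀ g, Y * σ g = σ g * Y)
    (htr : ∀ g, LinearMap.trace ℂ V (σ g * Y) = 0) : Y = 0 := by
  classical
  set W := (Representation.linHom σ σ).invariants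
  have hmem : ∀ f : V →ₗ[ℂ] V, (∀ g, f * σ g = σ g * f) → f ∈ W := by
    intro f hf g
    rw [Representation.linHom_apply]
    change σ g * (f * σ g⁻¹) = f
    rw [← mul_assoc, ← hf g, mul_assoc, ← map_mul, mul_inv_cancel, map_one, mul_one]
  let Φ : W →ₗ[ℂ] (G → ℂ) :=
    { toFun := fun f g => LinearMap.trace ℂ V (σ g * (f : V →ₗ[ℂ] V))
      map_add' := fun a b => funext fun g => by simp [mul_add]
      map_smul' := fun c a => funext fun g => by simp }
  let C := {η : IrrCharacter G // classInner σ.character (η : G → ℂ) = 1}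
  have hdim : Module.finrank ℂ W = Fintype.card C := by
    have h2 := finrank_commutant σ hchar
    have h3 : classInner σ.character σ.character = (Fintype.card C : ℂ) := by
      conv_lhs => arg 1; rw [IsCharacter.eq_sum_classInner hchar]
      rw [classInner_sum_left, Fintype.card_subtype, Finset.natCast_card_filter]
      refine Finset.sum_congr rfl fun η _ => ?_
      rw [classInner_smul_left, ← classInner_conj_symm σ.character (η : G → ℂ)]
      rcases hmf η with h | h <;> simp [h]
    exact_mod_cast h2.symm.trans h3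
  -- the images of the projections
  have himg : ∀ η : C, ((η : IrrCharacter G) : G → ℂ) ∈ LinearMap.range Φ := by
    intro η
    set f : V →ₗ[ℂ] V := ∑ g, conj (((η : IrrCharacter G) : G → ℂ) g) • σ g with hf
    have hfc : ∀ g, f * σ g = σ g * f := by
      intro g
      rw [hf, Finset.sum_mul, Finset.mul_sum]
      refine Fintype.sum_equiv (MulAut.conj g⁻¹).toEquiv _ _ fun x => ?_
      simp only [MulEquiv.toEquiv_eq_coe, EquivLike.coe_coe, MulAut.conj_apply, inv_inv]
      rw [IsIrrCharacter.isClassFunction (η : IrrCharacter G).2 x g⁻¹ |>.symm.trans (by rw [inv_inv]),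
        smul_mul_assoc, mul_smul_comm, ← map_mul, ← map_mul,
        show g * (g⁻¹ * x * g) = x * g by group]
    refine ⟨(((η : IrrCharacter G) : G → ℂ) 1 / (Nat.card G : ℂ)) • ⟨f, hmem f hfc⟩, ?_⟩
    · funext h
      show LinearMap.trace ℂ V (σ h * ((((η : IrrCharacter G) : G → ℂ) 1 / (Nat.card G : ℂ)) • f)) = _
      rw [mul_smul_comm, map_smul, hf, Finset.mul_sum, map_sum, smul_eq_mul]
      simp only [mul_smul_comm, map_smul, smul_eq_mul]
      have h1 : ∀ g, LinearMap.trace ℂ V (σ h * σ g) = σ.character (g * h) := fun g => by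
        rw [← map_mul]; exact (σ.char_mul_comm h g).symm
      simp only [h1]
      rw [sum_conj_mul_translate hchar, η.2, one_mul, ← mul_assoc]
      have hη1 : ((η : IrrCharacter G) : G → ℂ) 1 ≠ 0 := IsIrrCharacter.apply_one_ne_zero η.1.2
      have hG : (Nat.card G : ℂ) ≠ 0 := Nat.cast_ne_zero.2 Nat.card_pos.ne'
      field_simp
  have hli : LinearIndependent ℂ fun η : C => ((η : IrrCharacter G) : G → ℂ) :=
    linearIndependent_irrCharacter.comp _ Subtype.val_injective
  have hge : Fintype.card C ≤ Module.finrank ℂ (LinearMap.range Φ) := by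
    have := LinearIndependent.fintype_card_le_finrank (R := ℂ)
      (b := fun η : C => (⟨_, himg η⟩ : LinearMap.range Φ))
      (LinearIndependent.of_comp (LinearMap.range Φ).subtype hli)
    exact this
  have hker := LinearMap.finrank_range_add_finrank_ker Φ
  have hbot : LinearMap.ker Φ = ⊥ := Submodule.finrank_eq_zero.1 (by omega)
  have h0 : (⟨Y, hmem Y hY⟩ : W) ∈ LinearMap.ker Φ := funext htr
  rw [hbot, Submodule.mem_bot] at h0
  exact congrArg Subtype.val h0

/-- The vanishing of the sums `∑ χ (a l b l⁻¹)`. -/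
theorem sum_conj_eq_zero {χ : G → ℂ} (hχ : IsCharacter G χ) (S : Subgroup G) [Fintype S]
    (hmf : ∀ η : IrrCharacter S, classInner (fun s : S => χ s) (η : S → ℂ) = 0 ∨
      classInner (fun s : S => χ s) (η : S → ℂ) = 1)
    {b : G} (hb : ∀ l ∈ S, χ (b * l) = 0) (a : G) :
    ∑ l : S, χ (a * ((l : G) * b * (l : G)⁻¹)) = 0 := by
  classical
  obtain ⟨n, ρ, rfl⟩ := hχ
  set σ : Representation ℂ S (Fin n → ℂ) := ρ.comp S.subtype
  set Y : (Fin n → ℂ) →ₗ[ℂ] (Fin n → ℂ) := ∑ l : S, ρ ((l : G) * b * (l : G)⁻¹) with hY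
  have hY0 : Y = 0 := by
    refine eq_zero_of_trace_eq_zero σ ⟨n, σ, rfl⟩ hmf (fun s => ?_) fun s => ?_
    · show Y * ρ s = ρ s * Y
      rw [hY, Finset.sum_mul, Finset.mul_sum]
      refine Fintype.sum_equiv (Equiv.mulLeft s⁻¹) _ _ fun l => ?_
      rw [← map_mul, ← map_mul]
      congr 1
      simp only [Equiv.coe_mulLeft, Subgroup.coe_mul, InvMemClass.coe_inv]
      group
    · show LinearMap.trace ℂ _ (ρ s * Y) = 0
      rw [hY, Finset.mul_sum, map_sum]
      refine Finset.sum_eq_zero fun l _ => ?_
      rw [← map_mul]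
      show ρ.character _ = 0
      rw [show (s : G) * ((l : G) * b * (l : G)⁻¹) =
        (l : G) * ((l : G)⁻¹ * s * l * b) * (l : G)⁻¹ by group, ρ.char_conj, ρ.char_mul_comm]
      exact hb _ (S.mul_mem (S.mul_mem (S.inv_mem l.2) s.2) l.2)
  calc ∑ l : S, ρ.character (a * ((l : G) * b * (l : G)⁻¹))
      = LinearMap.trace ℂ _ (ρ a * Y) := by
        rw [hY, Finset.mul_sum, map_sum]
        refine Finset.sum_congr rfl fun l _ => ?_
        rw [← map_mul]
        rfl
    _ = 0 := by rw [hY0, mul_zero, map_zero]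

end CfsgLib.EqualDeg
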