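import Cfsg.Agent.Lib.Blocks.EqualDegrees.RootData
import Cfsg.Agent.Lib.Blk83.InertialPair
import Cfsg.Agent.Lib.Blk83.PairFusion

/-!
# Nilpotency of a block with normal defect group

The block is nilpotent exactly when the stabiliser of its root block in `D C(D)` is `D C(D)`.
-/

set_option autoImplicit false
set_option linter.style.haveILetI false
set_option maxHeartbeats 1000000
set_option synthInstance.maxHeartbeats 400000

open Cfsg CfsgLib.Blocks CfsgLib.Blocks.Pairs CfsgLib.Blk83
open scoped Classical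

namespace CfsgLib.EqualDeg

universe u

section Pure

variable {G : Type u} [Group G] [Finite G] {p : ℕ} [Fact p.Prime] {F : Type*} [Field F]
  [CharP F p]

/-- Below a pair at a normal subgroup the idempotents multiply to something nonzero. -/
theorem mul_ne_zero_of_sle {D Q : Subgroup G} {e f : MonoidAlgebra F G}
    (hP : IsPair p D e) (hle : SLE p Q f D e) : f * e ≠ 0 := by
  suffices ∀ a : Subgroup G × MonoidAlgebra F G,
      Relation.ReflTransGen (fun a b : Subgroup G × MonoidAlgebra F G => NS p a.1 a.2 b.1 b.2)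
        a (D, e) → a.2 * e ≠ 0 from this _ hle
  intro a ha
  induction ha using Relation.ReflTransGen.head_induction_on with
  | refl =>
    show e * e ≠ 0
    rw [hP.block.idem]
    exact hP.block.ne_zero
  | head hab hbc ih =>
    rename_i a b
    intro h0
    have hbD : b.1 ≤ D := SLE.le (p := p) (f := b.2) (e := e) hbc
    have hsupp : SuppIn (Subgroup.centralizer (b.1 : Set G)) e :=
      hP.block.mem.supp.mono (centralizer_anti hbD)
    have hfixe : ConjFixed b.1 e :=
      conjFixed_iff.mpr fun u hu => (le_pairStab hP (hbD hu)).2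
    have h1 : trunc b.1 a.2 * e = 0 := by
      have h2 := congrArg (trunc b.1) h0
      rwa [trunc_mul hab.pairP.pgroup hab.fix hfixe, trunc_eq_self hsupp, trunc_zero] at h2
    have hcomm : b.2 * trunc b.1 a.2 = trunc b.1 a.2 * b.2 :=
      (mul_comm_of_suppIn (trunc_suppIn b.1 a.2) hab.pairP.block.mem.fixed).symm
    refine ih ?_
    calc b.2 * e = trunc b.1 a.2 * b.2 * e := by rw [hab.br]
      _ = b.2 * (trunc b.1 a.2 * e) := by rw [← hcomm, mul_assoc]
      _ = 0 := by rw [h1, mul_zero]

/-- Fixing a pair below the pair of a normal subgroup, up to the centraliser, means fixing that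
pair. -/
theorem exists_centralizer_conj {D Q : Subgroup G} [D.Normal] {e f : MonoidAlgebra F G}
    (hP : IsPair p D e) (hle : SLE p Q f D e) {x : G} (hx : x ∈ pairStab Q f) :
    ∃ c ∈ Subgroup.centralizer (Q : Set G), conjA x e = conjA c e := by
  haveI := Fintype.ofFinite G
  obtain ⟨hxN, hxf⟩ := hx
  set C := Subgroup.centralizer (Q : Set G) with hC
  set E := Subgroup.centralizer (D : Set G) with hE
  have hDn : ∀ g : G, g ∈ Subgroup.normalizer (D : Set G) := fun g =>
    (Subgroup.normalizer_eq_top (H := D)).symm ▸ Subgroup.mem_top g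
  have hblk : ∀ g : G, IsBlockIdem E (conjA g e) := fun g =>
    hP.block.conj_of_normalizer (normalizer_le_normalizer_centralizer D (hDn g))
  have hEC : E ≤ C := centralizer_anti hle.le
  have hf := (hle.pair_left hP).block
  set O : Finset (MonoidAlgebra F G) :=
    (Finset.univ.filter fun g : G => g ∈ C).image fun g => conjA g e with hO
  have hmemO : ∀ {a}, a ∈ O ↔ ∃ g ∈ C, conjA g e = a := by simp [hO]
  have hOblk : ∀ a ∈ O, IsBlockIdem E a := fun a ha => by
    obtain ⟨g, -, rfl⟩ := hmemO.1 ha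
    exact hblk g
  set S := ∑ a ∈ O, a with hS
  have hmul : ∀ a, IsBlockIdem E a → a ∈ O → a * S = a := fun a ha haO => by
    rw [hS, Finset.mul_sum, Finset.sum_eq_single a (fun b hb hne => ?_) fun h => absurd haO h,
      ha.idem]
    exact ha.mul_eq_zero (hOblk b hb) fun h => hne h.symm
  have hidem : S * S = S := by
    conv_lhs => arg 1; rw [hS]
    rw [Finset.sum_mul]
    exact Finset.sum_congr rfl fun a ha => hmul a (hOblk a ha) ha
  have hSC : InCenter C S := by
    refine ⟨(InCenter.sum fun a ha => (hOblk a ha).mem).supp.mono hEC, conjFixed_iff.mpr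
      fun u hu => ?_⟩
    rw [hS, conjA_sum]
    refine Finset.sum_bij (fun a _ => conjA u a) (fun a ha => ?_)
      (fun a _ b _ h => conjA_injective u h) (fun a ha => ?_) fun _ _ => rfl
    · obtain ⟨g, hg, rfl⟩ := hmemO.1 ha
      exact hmemO.2 ⟨u * g, C.mul_mem hu hg, (conjA_conjA u g e).symm⟩
    · obtain ⟨g, hg, rfl⟩ := hmemO.1 ha
      refine ⟨conjA (u⁻¹ * g) e, hmemO.2 ⟨_, C.mul_mem (C.inv_mem hu) hg, rfl⟩, ?_⟩
      rw [conjA_conjA, mul_inv_cancel_left]
  have heO : e ∈ O := hmemO.2 ⟨1, C.one_mem, conjA_one e⟩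
  have hfS : S * f = f := by
    rcases hf.prim S hSC hidem with h | h
    · exact h
    · refine absurd ?_ (mul_ne_zero_of_sle hP hle)
      rw [← hmul e hP.block heO, (hOblk e heO).mem.mul_comm
        (InCenter.sum fun a ha => (hOblk a ha).mem), ← mul_assoc,
        (hf.mem.mul_comm hSC), h, zero_mul]
  by_contra hne
  push Not at hne
  have h0 : conjA x S * S = 0 := by
    rw [hS, conjA_sum, Finset.sum_mul_sum]
    refine Finset.sum_eq_zero fun a ha => Finset.sum_eq_zero fun a' ha' => ?_
    obtain ⟨g, hg, rfl⟩ := hmemO.1 ha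
    obtain ⟨g', hg', rfl⟩ := hmemO.1 ha'
    rw [conjA_conjA]
    refine (hblk _).mul_eq_zero (hblk _) fun heq => ?_
    have hxg : x * g * x⁻¹ ∈ C :=
      (Subgroup.mem_normalizer_iff.mp (normalizer_le_normalizer_centralizer Q hxN) g).mp hg
    refine hne ((x * g * x⁻¹)⁻¹ * g') (C.mul_mem (C.inv_mem hxg) hg') ?_
    rw [← conjA_conjA _ g', ← heq, conjA_conjA]
    congr 1
    group
  refine hf.ne_zero ?_
  calc f = conjA x (S * f) := by rw [hfS, hxf]
    _ = conjA x S * (S * f) := by rw [conjA_mul, hxf, hfS]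
    _ = 0 := by rw [← mul_assoc, h0, zero_mul]

/-- If only `D C(D)` fixes the pair of a normal subgroup, the block is nilpotent. -/
theorem nilPairs_of_stab_le {D : Subgroup G} [D.Normal] {B e : MonoidAlgebra F G}
    (hP : PairOf p B D e) (hno : NoExt p D e)
    (hst : pairStab D e ≤ D ⊔ Subgroup.centralizer (D : Set G)) : NilPairs p B := by
  refine nilPairs_of_below hP hno fun Q f hle x hx hreg => ?_
  obtain ⟨c, hc, hce⟩ := exists_centralizer_conj hP.pair hle hx
  have h1 : c⁻¹ * x ∈ pairStab D e := by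
    refine ⟨(Subgroup.normalizer_eq_top (H := D)).symm ▸ Subgroup.mem_top _, ?_⟩
    rw [← conjA_conjA, hce, conjA_inv_conjA]
  obtain ⟨v, hv, z, hz, hvz⟩ := Subgroup.mem_sup_of_normal_left.1 (hst h1)
  have hzQ : z ∈ Subgroup.centralizer (Q : Set G) := centralizer_anti hle.le hz
  have hxe : x = c * v * z := by rw [mul_assoc, hvz, mul_inv_cancel_left]
  have hN := Subgroup.centralizer_le_normalizer (Q : Set G)
  have hvN : v ∈ Subgroup.normalizer (Q : Set G) := by
    have := Subgroup.mul_mem _ (Subgroup.mul_mem _ (Subgroup.inv_mem _ (hN hc)) hx.1)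
      (Subgroup.inv_mem _ (hN hzQ))
    rwa [show c⁻¹ * x * z⁻¹ = v by rw [hxe]; group] at this
  obtain ⟨k, hk⟩ := hP.pair.pgroup ⟨v, hv⟩
  refine mem_centralizer_of_regular hx.1 hvN hreg (congrArg Subtype.val hk) ?_
  rw [show v⁻¹ * x = v⁻¹ * c * v * z by rw [hxe]; group]
  refine Subgroup.mul_mem _ ?_ hzQ
  simpa using (Subgroup.mem_normalizer_iff.mp (normalizer_le_normalizer_centralizer Q
    (Subgroup.inv_mem _ hvN)) c).mp hc

end Pure

variable {G : Type u} [Group G] [Fintype G] {p : ℕ} [Fact p.Prime] {M : Ideal AlgInt}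
  [M.IsMaximal] {B : Set (IrrCharacter G)} {D L : Subgroup G} [D.Normal] [L.Normal] [Fintype L]
  {b : Set (IrrCharacter L)} {θ : IrrCharacter L} {T : Subgroup G}
  (h : RootData p M B D L b θ T)
include h

/-- The stabiliser of the pair at `D` is the stabiliser of the root block. -/
theorem RootData.pairStab_eq : pairStab D (eIn h.root.1) = T := by
  ext g
  have hDn : g ∈ Subgroup.normalizer (D : Set G) :=
    (Subgroup.normalizer_eq_top (H := D)).symm ▸ Subgroup.mem_top g
  have hLn : g ∈ Subgroup.normalizer (L : Set G) :=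
    (Subgroup.normalizer_eq_top (H := L)).symm ▸ Subgroup.mem_top g
  have h1 : g ∈ pairStab D (eIn h.root.1) ↔ StabilizesBlock L b g :=
    ⟨fun hg => (stabilizesBlock_iff h.root.1 hLn).2 hg.2,
      fun hg => ⟨hDn, (stabilizesBlock_iff h.root.1 hLn).1 hg⟩⟩
  rw [h1, ← inv_mem_iff (x := g), h.stab]
  constructor
  · intro hg φ hφ
    obtain ⟨χ', hχ', hc⟩ := hg.2 φ hφ
    have : conjIrr L φ g⁻¹ = χ' := Subtype.ext (funext fun k => by
      rw [coe_conjIrr]
      simp only [CharTwist.conjFun]
      refine (hc _ k ?_).symm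
      simp [mul_assoc])
    rwa [this]
  · intro hg
    refine ⟨hLn, fun φ hφ => ⟨_, hg φ hφ, fun k k' hk => ?_⟩⟩
    rw [coe_conjIrr]
    simp only [CharTwist.conjFun]
    refine congrArg _ (Subtype.ext ?_)
    show g⁻¹ * (k' : G) * g⁻¹⁻¹ = k
    rw [hk]; group

/-- Nilpotency. -/
theorem RootData.isNilpotentBlock_iff : Cfsg.IsNilpotentBlock p M B ↔ T = L := by
  haveI : CharP (ResField M) p := charP_resField h.mod.1 (natCast_mem_of_isPModular h.mod)
  have hp : p.Prime := Fact.out
  rw [CfsgLib.Blk83.isNilpotentBlock_iff h.mod h.block]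
  have hP := pairOf_of_induced h.mod h.isPGroup h.eq_sup h.block h.root
  have hno := ((isDefectGroup_iff_maxR h.mod h.block).1 h.defect).noExt hP
  constructor
  · intro hnil
    refine le_antisymm (fun t ht => ?_) h.le_stab
    obtain ⟨N, hN⟩ := exists_goodExp hp (Nat.card_pos (α := G)).ne'
    obtain ⟨x, w, hxw, hc, ⟨k, hk⟩, hw⟩ := exists_isPPart hp t
    have hx : t ^ N = x := by rw [← hxw, hN.pow_mul_eq hc hk hw]
    have hxT : x ∈ T := hx ▸ T.pow_mem ht N
    have hwT : w ∈ T := by
      rw [show w = x⁻¹ * t by rw [← hxw, inv_mul_cancel_left]]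
      exact T.mul_mem (T.inv_mem hxT) ht
    have hxL : x ∈ L := by
      haveI : (L.subgroupOf T).Normal := Subgroup.normal_subgroupOf
      have h2 : (⟨x, hxT⟩ : T) ∈ L.subgroupOf T :=
        mem_of_pow_mem (p := p) h.cop (Subgroup.pow_index_mem _ _) (k := k)
          (Subgroup.mem_subgroupOf.2 (by
            show x ^ p ^ k ∈ L
            rw [← hk, pow_orderOf_eq_one]; exact L.one_mem))
      exact h2
    rw [← hxw]
    exact L.mul_mem hxL (h.centralizer_le (hnil D _ hP w (h.pairStab_eq.symm ▸ hwT) hw))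
  · intro hTL
    refine nilPairs_of_stab_le hP hno ?_
    rw [h.pairStab_eq, hTL, h.eq_sup]

end CfsgLib.EqualDeg
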