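import Cfsg.Agent.Lib.Blocks.EqualDegrees.MultFree
import Cfsg.Agent.Lib.Char.Conj
import Cfsg.Agent.Lib.Char.Virtual
import Cfsg.Agent.Lib.Char.Induced
import Cfsg.Agent.Lib.Char.Twist
import Cfsg.Agent.Lib.CharDeep.Extend

/-!
# The pairing of two cosets of a normal subgroup given by an invariant character

`pairing θ g t` is the normalised sum of `θ [a, b]` over `a ∈ g L`, `b ∈ t L`; it is an algebraic
integer, and it is `1` for `g ∈ L`.
-/

set_option autoImplicit false
set_option linter.unusedSectionVars false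
set_option linter.style.haveILetI false

namespace CfsgLib.EqualDeg

open Cfsg CfsgLib.Char CfsgLib.CharTwist
open scoped ComplexConjugate

universe u

variable {G : Type u} [Group G] [Fintype G]

/-- Averages of a character over a coset of a normal subgroup are algebraic integers. -/
theorem isIntegral_coset_avg {χ : G → ℂ} (hχ : IsCharacter G χ) (L : Subgroup G) [L.Normal]
    [Fintype L] (g : G) :
    IsIntegral ℤ ((Nat.card L : ℂ)⁻¹ * ∑ l : L, χ (g * l)) := by
  refine IsCharacter.induction hχ (P := fun f => IsIntegral ℤ ((Nat.card L : ℂ)⁻¹ * ∑ l : L, f (g * l)))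
    (by simpa using isIntegral_zero) (fun ψ hψ => ?_) fun a b ha hb => ?_
  swap
  · simp only [Pi.add_apply, Finset.sum_add_distrib, mul_add]
    exact ha.add hb
  obtain ⟨n, ρ, hρ, rfl⟩ := hψ
  haveI := hρ
  set T : (Fin n → ℂ) →ₗ[ℂ] (Fin n → ℂ) := ∑ l : L, ρ l with hT
  obtain ⟨c, hc⟩ := exists_scalar_of_commute ρ T fun x => by
    rw [hT, Finset.sum_mul, Finset.mul_sum]
    refine Fintype.sum_equiv (MulAut.conjNormal x⁻¹).toEquiv _ _ fun l => ?_
    simp only [MulEquiv.toEquiv_eq_coe, EquivLike.coe_coe]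
    rw [MulAut.conjNormal_apply, ← map_mul, ← map_mul]
    congr 1
    group
  have hL : (Nat.card L : ℂ) ≠ 0 := Nat.cast_ne_zero.2 Nat.card_pos.ne'
  have hTT : T * T = (Nat.card L : ℂ) • T := by
    conv_lhs => arg 1; rw [hT]
    rw [Finset.sum_mul, Finset.sum_congr rfl fun (l : L) _ => (?_ : ρ (l : G) * T = T),
      Finset.sum_const, Finset.card_univ, ← Nat.card_eq_fintype_card, Nat.cast_smul_eq_nsmul]
    rw [hT, Finset.mul_sum]
    exact Fintype.sum_equiv (Equiv.mulLeft l) _ _ fun m => by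
      rw [← map_mul]; rfl
  have hsum : ∑ l : L, ρ.character (g * l) = c * ρ.character g := by
    have h : ∑ l : L, ρ.character (g * l) = LinearMap.trace ℂ _ (ρ g * T) := by
      rw [hT, Finset.mul_sum, map_sum]
      exact Finset.sum_congr rfl fun l _ => by rw [← map_mul]; rfl
    rw [h, hc, mul_smul_comm, mul_one, map_smul]
    rfl
  have hint : IsIntegral ℤ (ρ.character g) := isIntegral_character ρ g
  have hcc : c * c = (Nat.card L : ℂ) * c := by
    have h := congrArg (LinearMap.trace ℂ (Fin n → ℂ)) hTT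
    rw [hc, smul_mul_smul_comm, one_mul, smul_smul, map_smul, map_smul, smul_eq_mul,
      smul_eq_mul] at h
    refine mul_right_cancel₀ ?_ h
    have h1 : ρ.character 1 ≠ 0 := IsIrrCharacter.apply_one_ne_zero ⟨n, ρ, hρ, rfl⟩
    rwa [Representation.character, map_one] at h1
  rw [hsum]
  rcases eq_or_ne c 0 with h0 | h0
  · rw [h0, zero_mul, mul_zero]; exact isIntegral_zero
  · rw [mul_right_cancel₀ h0 hcc, ← mul_assoc, inv_mul_cancel₀ hL, one_mul]
    exact hint

/-- Averaging a character over a subgroup on which it is irreducible. -/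
theorem sum_conj_mul_of_irr {H : Type*} [Group H] [Fintype H] (ι : H →* G) {χ : G → ℂ}
    (hχ : IsCharacter G χ) (hirr : IsIrrCharacter H fun h => χ (ι h)) (a c : G) :
    ∑ m : H, χ (a * (ι m * c * (ι m)⁻¹)) = (Nat.card H : ℂ) / χ 1 * χ a * χ c := by
  obtain ⟨n, ρ, rfl⟩ := hχ
  set Y : (Fin n → ℂ) →ₗ[ℂ] (Fin n → ℂ) := ∑ m : H, ρ (ι m * c * (ι m)⁻¹) with hY
  obtain ⟨s, hs⟩ := exists_scalar_of_irr (ρ.comp ι) (Y := Y) hirr fun h => by
    show Y * ρ (ι h) = ρ (ι h) * Y
    rw [hY, Finset.sum_mul, Finset.mul_sum]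
    refine Fintype.sum_equiv (Equiv.mulLeft h⁻¹) _ _ fun m => ?_
    rw [← map_mul, ← map_mul]
    congr 1
    simp only [Equiv.coe_mulLeft, map_mul, map_inv]
    group
  have h1 : ρ.character 1 ≠ 0 := by
    have := IsIrrCharacter.apply_one_ne_zero hirr
    simpa using this
  have hsum : ∑ m : H, ρ.character (a * (ι m * c * (ι m)⁻¹)) = s * ρ.character a := by
    have h : ∑ m : H, ρ.character (a * (ι m * c * (ι m)⁻¹)) =
        LinearMap.trace ℂ _ (ρ a * Y) := by
      rw [hY, Finset.mul_sum, map_sum]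
      exact Finset.sum_congr rfl fun m _ => by rw [← map_mul]; rfl
    rw [h, hs, mul_smul_comm, mul_one, map_smul]
    rfl
  have htr : s * ρ.character 1 = (Nat.card H : ℂ) * ρ.character c := by
    have h := congrArg (LinearMap.trace ℂ (Fin n → ℂ)) hs
    rw [hY, map_sum, map_smul, smul_eq_mul] at h
    change ∑ m : H, ρ.character (ι m * c * (ι m)⁻¹) = _ at h
    simp only [ρ.char_conj] at h
    rw [Finset.sum_const, Finset.card_univ, ← Nat.card_eq_fintype_card, nsmul_eq_mul] at h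
    rw [h, Representation.character, map_one]
  rw [hsum]
  field_simp
  linear_combination ρ.character a * htr

section Pairing

variable (L : Subgroup G) [hL : L.Normal] [Fintype L] (θ : L → ℂ)

/-- The normalised sum of `θ [a, b]` over `a ∈ g L`, `b ∈ t L`. -/
noncomputable def pairing (g t : G) : ℂ :=
  θ 1 / (Nat.card L : ℂ) ^ 2 *
    ∑ n : L, ∑ m : L, extendByZero L θ (g * n * (t * m) * (g * n)⁻¹ * (t * m)⁻¹)

variable {L θ}

theorem comm_mem_iff (g t : G) (n m : L) :
    g * n * (t * m) * (g * n)⁻¹ * (t * m)⁻¹ ∈ L ↔ g * t * g⁻¹ * t⁻¹ ∈ L := by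
  rw [← QuotientGroup.eq_one_iff, ← QuotientGroup.eq_one_iff (g * t * g⁻¹ * t⁻¹)]
  simp [(QuotientGroup.eq_one_iff (n : G)).2 n.2, (QuotientGroup.eq_one_iff (m : G)).2 m.2]

theorem extendByZero_inv (hθ : IsCharacter L θ) (x : G) :
    extendByZero L θ x⁻¹ = conj (extendByZero L θ x) := by
  by_cases hx : x ∈ L
  · rw [extendByZero_apply_mem L θ hx, extendByZero_apply_mem L θ (L.inv_mem hx)]
    exact IsCharacter.apply_inv hθ ⟨x, hx⟩
  · rw [extendByZero_of_notMem L θ hx, extendByZero_of_notMem L θ (fun h => hx (inv_mem_iff.1 h)),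
      map_zero]

theorem pairing_comm (hθ : IsCharacter L θ) (g t : G) :
    pairing L θ t g = conj (pairing L θ g t) := by
  have h1 : conj (θ 1) = θ 1 := by rw [← IsCharacter.apply_inv hθ, inv_one]
  simp only [pairing, map_mul, map_div₀, map_pow, map_sum, map_natCast, h1]
  rw [Finset.sum_comm]
  congr 1
  refine Finset.sum_congr rfl fun n _ => Finset.sum_congr rfl fun m _ => ?_
  rw [← extendByZero_inv hθ]
  congr 1
  group

variable (hθ : IsIrrCharacter L θ) (hinv : ∀ g : G, conjFun L θ g = θ)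
include hθ hinv

/-- The product formula. -/
theorem pairing_eq {H : Type u} [Group H] [Fintype H] (ι : H →* G) (lift : L →* H)
    (hlift : ∀ l : L, ι (lift l) = (l : G)) (hι : Function.Injective ι) {χ : H → ℂ}
    (hχ : IsCharacter H χ) (hres : ∀ l : L, χ (lift l) = θ l) (g t : G) (g' : H) (hg : ι g' = g)
    (τ : H ≃* H) (hτ : ∀ x : H, ι (τ x) = t * ι x * t⁻¹)
    (hmem : g * t * g⁻¹ * t⁻¹ ∈ L) :
    pairing L θ g t =
      (Nat.card L : ℂ)⁻¹ * ∑ n : L, χ (g' * lift n) * χ (τ (g' * lift n)⁻¹) := by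
  have hθ1 : χ 1 = θ 1 := by rw [← hres 1, map_one]
  have hterm : ∀ n : L, ∑ m : L, extendByZero L θ (g * n * (t * m) * (g * n)⁻¹ * (t * m)⁻¹) =
      (Nat.card L : ℂ) / θ 1 * χ (g' * lift n) * χ (τ (g' * lift n)⁻¹) := by
    intro n
    rw [← hθ1, ← sum_conj_mul_of_irr lift hχ
      (by rw [show (fun l => χ (lift l)) = θ from funext hres]; exact hθ)]
    refine Fintype.sum_equiv (MulAut.conjNormal t).toEquiv _ _ fun m => ?_
    have hx := (comm_mem_iff g t n m).2 hmem
    rw [extendByZero_apply_mem L θ hx, ← hres]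
    congr 1
    refine hι ?_
    rw [hlift]
    simp only [MulEquiv.toEquiv_eq_coe, EquivLike.coe_coe, map_mul, map_inv, hτ, hg, hlift,
      MulAut.conjNormal_apply]
    group
  rw [pairing, Finset.sum_congr rfl fun n _ => hterm n]
  simp only [Finset.mul_sum]
  refine Finset.sum_congr rfl fun n _ => ?_
  have hθ0 : θ 1 ≠ 0 := IsIrrCharacter.apply_one_ne_zero hθ
  field_simp

theorem pairing_one (t : G) : pairing L θ 1 t = 1 := by
  let τ : L ≃* L := MulAut.conjNormal t
  rw [pairing_eq hθ hinv L.subtype (MonoidHom.id L) (fun _ => rfl) L.subtype_injective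
    (IsIrrCharacter.isCharacter hθ) (fun _ => rfl) 1 t 1 rfl τ
    (fun x => MulAut.conjNormal_apply t x) (by simp)]
  rw [← classInner_irr_self hθ, classInner]
  congr 1
  refine Finset.sum_congr rfl fun n _ => ?_
  have h2 : θ (τ (n⁻¹)) = θ n⁻¹ := by
    conv_rhs => rw [← hinv t]
    exact congrArg θ (Subtype.ext (by simp [τ, mul_assoc]))
  rw [MonoidHom.id_apply, one_mul, h2, IsCharacter.apply_inv (IsIrrCharacter.isCharacter hθ)]

theorem isIntegral_pairing (g t : G) : IsIntegral ℤ (pairing L θ g t) := by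
  classical
  by_cases hmem : g * t * g⁻¹ * t⁻¹ ∈ L
  swap
  · rw [pairing, Finset.sum_eq_zero fun n _ => Finset.sum_eq_zero fun m _ =>
      extendByZero_of_notMem L θ (fun h => hmem ((comm_mem_iff g t n m).1 h)), mul_zero]
    exact isIntegral_zero
  set J : Subgroup G := L ⊔ Subgroup.zpowers g with hJ
  have hLJ : L ≤ J := le_sup_left
  have hgJ : g ∈ J := le_sup_right (α := Subgroup G) (Subgroup.mem_zpowers g)
  haveI : (L.subgroupOf J).Normal := Subgroup.normal_subgroupOf
  haveI := Fintype.ofFinite J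
  haveI := Fintype.ofFinite (L.subgroupOf J)
  let e : L.subgroupOf J ≃* L := Subgroup.subgroupOfEquivOfLe hLJ
  have hcyc : IsCyclic (J ⧸ L.subgroupOf J) := by
    refine ⟨⟨((⟨g, hgJ⟩ : J) : J ⧸ L.subgroupOf J), fun q => ?_⟩⟩
    obtain ⟨x, rfl⟩ := QuotientGroup.mk_surjective q
    obtain ⟨l, hl, z, hz, hx⟩ := Subgroup.mem_sup_of_normal_left.1 (x.2 : (x : G) ∈ J)
    obtain ⟨k, rfl⟩ := Subgroup.mem_zpowers_iff.1 hz
    refine ⟨k, ?_⟩
    show ((⟨g, hgJ⟩ : J) : J ⧸ L.subgroupOf J) ^ k = _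
    rw [← QuotientGroup.mk_zpow, QuotientGroup.eq, Subgroup.mem_subgroupOf]
    simp only [Subgroup.coe_mul, InvMemClass.coe_inv, SubgroupClass.coe_zpow, ← hx]
    simpa [mul_assoc] using hL.conj_mem l hl (g ^ k)⁻¹
  obtain ⟨χ, hχ, hres⟩ := CfsgLib.CharDeep.Extend.extends_of_cyclic (L.subgroupOf J)
    (fun x => θ (e x)) (isIrrCharacter_comp_equiv hθ e)
    (fun x n => by
      conv_rhs => rw [← hinv (x : G)]
      exact congrArg θ (Subtype.ext rfl)) hcyc
  have hnorm : ∀ x ∈ J, t * x * t⁻¹ ∈ J := by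
    suffices h : J ≤ J.comap (MulAut.conj t).toMonoidHom from fun x hx => h hx
    rw [hJ]
    refine sup_le (fun l hl => Subgroup.mem_sup_left (hL.conj_mem l hl t)) ?_
    rw [Subgroup.zpowers_le, Subgroup.mem_comap]
    show t * g * t⁻¹ ∈ J
    rw [show t * g * t⁻¹ = (g * t * g⁻¹ * t⁻¹)⁻¹ * g by group]
    exact J.mul_mem (J.inv_mem (hLJ hmem)) hgJ
  have hbij : Function.Bijective fun x : J => (⟨t * x * t⁻¹, hnorm x x.2⟩ : J) :=
    Finite.injective_iff_bijective.1 fun x y h => Subtype.ext (by simpa using congrArg Subtype.val h)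
  let τ : J ≃* J :=
    { Equiv.ofBijective _ hbij with
      map_mul' := fun x y => Subtype.ext (by
        show t * (x * y : G) * t⁻¹ = t * x * t⁻¹ * (t * y * t⁻¹)
        group) }
  rw [pairing_eq hθ hinv J.subtype (Subgroup.inclusion hLJ) (fun _ => rfl) J.subtype_injective
    (IsIrrCharacter.isCharacter hχ) (fun l => hres ⟨Subgroup.inclusion hLJ l, l.2⟩) g t
    ⟨g, hgJ⟩ rfl τ (fun x => rfl) hmem]
  have hF : IsCharacter J (fun x => χ x * conj (χ (τ x))) :=
    IsCharacter.mul (IsIrrCharacter.isCharacter hχ)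
      (IsCharacter.conj_apply' (IsCharacter.comp (IsIrrCharacter.isCharacter hχ) τ.toMonoidHom))
  convert isIntegral_coset_avg hF (L.subgroupOf J) ⟨g, hgJ⟩ using 1
  rw [Nat.card_congr e.toEquiv]
  congr 1
  refine (Fintype.sum_equiv e.toEquiv _ _ fun l => ?_).symm
  rw [← IsCharacter.apply_inv (IsIrrCharacter.isCharacter hχ), ← map_inv]
  rfl

end Pairing

end CfsgLib.EqualDeg
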